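import Groth.Agent.DiscDual32.OpenImm
import Groth.Agent.FlatMor66.FlatDescentSource
import Groth.Prelude.Def_Disc
import Mathlib.RingTheory.Etale.QuasiFinite
import Mathlib.AlgebraicGeometry.Morphisms.Flat
import Mathlib.Algebra.Module.FinitePresentation
import Mathlib.RingTheory.LocalRing.Module
import Mathlib.RingTheory.Localization.BaseChange
import Mathlib.RingTheory.TensorProduct.IsBaseChangePi
import Mathlib.RingTheory.Smooth.Flat

/-!
# The dualising module of a flat quasi-finite map is flat
-/

set_option autoImplicit false

noncomputable section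

namespace Groth.Agent.DiscDual32

open TensorProduct Disc

universe u

variable {R S : Type u} [CommRing R] [CommRing S] [Algebra R S]

/-- After an étale neighbourhood, multiplication by an element outside the prime factors through a
free module. -/
theorem exists_factor_free [IsNoetherianRing R] [Module.Finite R S] (e : S) (he : IsIdempotentElem e)
    (P : Ideal R) [P.IsPrime] (P' : Ideal S) [P'.IsPrime] (hover : P'.LiesOver P) (heP : e ∉ P')
    (huniq : ∀ Q : Ideal S, Q.IsPrime → Q.LiesOver P → e ∉ Q → Q = P')
    (hflat : Module.Flat R (Localization.AtPrime P')) :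
    ∃ t : S, t ∉ P' ∧ ∃ (k : ℕ) (a : (Fin k → R) →ₗ[R] S) (b : S →ₗ[R] (Fin k → R)),
      a ∘ₗ b = LinearMap.mulLeft R t := by
  let M := Localization.Away e
  have hsurj : Function.Surjective (algebraMap S M) := by
    intro z
    obtain ⟨y, ⟨_, m, rfl⟩, rfl⟩ := IsLocalization.exists_mk'_eq (Submonoid.powers e) z
    refine ⟨y, (IsLocalization.mk'_eq_iff_eq_mul.2 ?_).symm⟩
    rw [← map_mul, IsLocalization.eq_iff_exists (Submonoid.powers e)]
    refine ⟨⟨e, 1, pow_one e⟩, ?_⟩
    rcases Nat.eq_zero_or_pos m with hm | hm
    · simp [hm]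
    · obtain ⟨l, rfl⟩ : ∃ l, m = l + 1 := ⟨m - 1, by omega⟩
      show e * y = e * (y * e ^ (l + 1))
      rw [he.pow_succ_eq, mul_comm y, ← mul_assoc, he.eq]
  have : Module.Finite R M :=
    Module.Finite.of_surjective (IsScalarTower.toAlgHom R S M).toLinearMap hsurj
  let L := Localization (Algebra.algebraMapSubmonoid M P.primeCompl)
  let Rp := Localization.AtPrime P
  have hLflat : Module.Flat R L := by
    refine Module.flat_of_isLocalized_maximal (R := R) L _ (fun Q _ => Localization.AtPrime Q)
      (fun Q _ => Algebra.linearMap _ _) fun Q hQ => ?_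
    let qM := Q.comap (algebraMap M L)
    let qS := qM.comap (algebraMap S M)
    have hqS : qS.LiesOver P := by
      constructor
      have hle : qS.under R ≤ P := by
        intro r hr
        by_contra hrP
        exact hQ.ne_top (Ideal.eq_top_of_isUnit_mem _
          (show algebraMap M L (algebraMap R M r) ∈ Q from by
            rw [IsScalarTower.algebraMap_apply R S M]; exact hr)
          (IsLocalization.map_units L (⟨algebraMap R M r, r, hrP, rfl⟩ :
            Algebra.algebraMapSubmonoid M P.primeCompl)))
      refine le_antisymm ?_ hle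
      have : Module.Finite Rp L := by
        have := IsLocalizedModule.linearEquiv P.primeCompl
          (LocalizedModule.mkLinearMap P.primeCompl M) (IsScalarTower.toAlgHom R M L).toLinearMap
        exact Module.Finite.equiv (this.extendScalarsOfIsLocalization P.primeCompl Rp)
      have hmax : (Q.under Rp).IsMaximal := Ideal.IsMaximal.under Rp Q
      have e1 : Q.under Rp = IsLocalRing.maximalIdeal Rp := IsLocalRing.eq_maximalIdeal hmax
      intro r hr
      have : algebraMap R Rp r ∈ Q.under Rp := by
        rw [e1]; exact (IsLocalization.AtPrime.to_map_mem_maximal_iff Rp P r).2 hr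
      show algebraMap M L (algebraMap S M (algebraMap R S r)) ∈ Q
      rw [← IsScalarTower.algebraMap_apply R S M, ← IsScalarTower.algebraMap_apply R M L,
        IsScalarTower.algebraMap_apply R Rp L]
      exact this
    have heq : qS = P' := huniq qS inferInstance hqS fun heq =>
      (Ideal.IsPrime.ne_top (I := qM) inferInstance) (Ideal.eq_top_of_isUnit_mem _ heq
        (IsLocalization.map_units M (⟨e, 1, pow_one e⟩ : Submonoid.powers e)))
    have h1 : IsLocalization.AtPrime (Localization.AtPrime Q) qM :=
      IsLocalization.isLocalization_isLocalization_atPrime_isLocalization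
        (Algebra.algebraMapSubmonoid M P.primeCompl) (Localization.AtPrime Q) Q
    have h2 : IsLocalization.AtPrime (Localization.AtPrime Q) qS :=
      IsLocalization.isLocalization_isLocalization_atPrime_isLocalization
        (Submonoid.powers e) (Localization.AtPrime Q) qM
    subst heq
    exact Module.Flat.of_linearEquiv
      ((IsLocalization.algEquiv qS.primeCompl (Localization.AtPrime Q)
        (Localization.AtPrime qS)).restrictScalars R).toLinearEquiv
  let ι := (IsScalarTower.toAlgHom R M L).toLinearMap
  have : Module.Finite Rp L := by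
    have := IsLocalizedModule.linearEquiv P.primeCompl
      (LocalizedModule.mkLinearMap P.primeCompl M) ι
    exact Module.Finite.equiv (this.extendScalarsOfIsLocalization P.primeCompl Rp)
  have : Module.Flat Rp L := (Module.flat_iff_of_isLocalization Rp P.primeCompl (M := L)).2 hLflat
  have : Module.Free Rp L := Module.free_of_flat_of_isLocalRing
  obtain ⟨k, π, hπ⟩ := Module.Finite.exists_fin' R S
  let πM : (Fin k → R) →ₗ[R] M := (IsScalarTower.toAlgHom R S M).toLinearMap ∘ₗ π
  let lr : (Fin k → R) →ₗ[R] (Fin k → Rp) :=
    LinearMap.pi fun i => Algebra.linearMap R Rp ∘ₗ LinearMap.proj i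
  let G : (Fin k → Rp) →ₗ[Rp] L :=
    Fintype.linearCombination Rp fun i => ι (πM (Pi.single i 1))
  have hGlr : (G.restrictScalars R).comp lr = ι.comp πM := by
    refine (Pi.basisFun R (Fin k)).ext fun i => ?_
    simp [G, lr, Fintype.linearCombination_apply, Pi.single_apply, apply_ite (algebraMap R Rp)]
  have hGsurj : Function.Surjective G := by
    intro z
    obtain ⟨⟨y, ⟨_, r, hr, rfl⟩⟩, hz⟩ := IsLocalization.surj
      (Algebra.algebraMapSubmonoid M P.primeCompl) z
    obtain ⟨x, hx⟩ := hsurj y
    obtain ⟨w, rfl⟩ := hπ x
    have hy : G (lr w) = algebraMap M L y := by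
      have := LinearMap.congr_fun hGlr w
      simp only [LinearMap.comp_apply, LinearMap.restrictScalars_apply] at this
      rw [this, ← hx]; rfl
    refine ⟨IsLocalization.mk' Rp 1 (⟨r, hr⟩ : P.primeCompl) • lr w, ?_⟩
    rw [map_smul, hy, ← hz, ← IsScalarTower.algebraMap_apply R M L,
      IsScalarTower.algebraMap_apply R Rp L, mul_comm, ← Algebra.smul_def, smul_smul,
      IsLocalization.mk'_spec, map_one, one_smul]
  obtain ⟨σ, hσ⟩ := Module.projective_lifting_property G LinearMap.id hGsurj
  have : Module.FinitePresentation R M := Module.finitePresentation_of_finite R M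
  obtain ⟨b, s, hb⟩ := Module.FinitePresentation.exists_lift_of_isLocalizedModule P.primeCompl lr
    ((σ.restrictScalars R).comp ι)
  have hloc : ι.comp (πM.comp b) = ι.comp ((s : R) • LinearMap.id) := by
    rw [← LinearMap.comp_assoc, ← hGlr, LinearMap.comp_assoc, hb]
    refine LinearMap.ext fun m => ?_
    have h1 := LinearMap.congr_fun hσ (ι m)
    simp only [LinearMap.comp_apply, LinearMap.id_apply] at h1
    simp only [LinearMap.comp_apply, LinearMap.smul_apply, LinearMap.restrictScalars_apply,
      Submonoid.smul_def, LinearMap.map_smul_of_tower, h1, LinearMap.id_apply, map_smul]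
  obtain ⟨s', hs'⟩ := Module.Finite.exists_smul_of_comp_eq_of_isLocalizedModule P.primeCompl ι _ _
    hloc
  refine ⟨algebraMap R S ((s' : R) * s) * e, ?_, k,
    ((s' : R) • LinearMap.mulLeft R e).comp π, b.comp (IsScalarTower.toAlgHom R S M).toLinearMap, ?_⟩
  · intro h
    rcases Ideal.IsPrime.mem_or_mem inferInstance h with h | h
    · have : (s' : R) * s ∈ P := (Ideal.mem_of_liesOver P' P _).2 h
      rcases Ideal.IsPrime.mem_or_mem inferInstance this with h' | h'
      · exact s'.2 h'
      · exact s.2 h'
    · exact heP h
  · refine LinearMap.ext fun y => ?_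
    have h1 := LinearMap.congr_fun hs' (algebraMap S M y)
    simp only [Submonoid.smul_def, LinearMap.smul_apply, LinearMap.comp_apply, LinearMap.id_apply,
      πM] at h1
    have h2 : algebraMap S M ((s' : R) • π (b (algebraMap S M y))) =
        algebraMap S M ((s' : R) • (s : R) • y) := by
      rw [← IsScalarTower.coe_toAlgHom' R S M, map_smul, map_smul, map_smul]
      exact h1
    obtain ⟨⟨_, m, rfl⟩, hm⟩ := (IsLocalization.eq_iff_exists (Submonoid.powers e) M).1 h2
    have hem : e * ((s' : R) • π (b (algebraMap S M y))) = e * ((s' : R) • (s : R) • y) := by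
      rcases Nat.eq_zero_or_pos m with hm0 | hm0
      · simp only [hm0, pow_zero, one_mul] at hm; rw [hm]
      · obtain ⟨l, rfl⟩ : ∃ l, m = l + 1 := ⟨m - 1, by omega⟩
        simpa [he.pow_succ_eq] using hm
    simp only [LinearMap.comp_apply, LinearMap.smul_apply, LinearMap.mulLeft_apply,
      AlgHom.toLinearMap_apply, IsScalarTower.coe_toAlgHom']
    rw [← mul_smul_comm, hem, smul_smul, Algebra.smul_def]
    ring

variable {A B' : Type u} [CommRing A] [CommRing B'] [Algebra A B'] [IsNoetherianRing A]
  [Module.Finite A B']

/-- Multiplication by some element outside `q` factors through a free module. -/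
theorem exists_factor (q : Ideal B') [q.IsPrime] (hflat : Module.Flat A (Localization.AtPrime q)) :
    ∃ s : B', s ∉ q ∧ ∃ (k : ℕ) (a : (Fin k → A) →ₗ[A] B') (b : B' →ₗ[A] (Fin k → A)),
      a ∘ₗ b = LinearMap.mulLeft A s := by
  classical
  obtain ⟨k, π, hπ⟩ := Module.Finite.exists_fin' A B'
  let E := B' →ₗ[A] B'
  let H := B' →ₗ[A] (Fin k → A)
  let πs : H →ₗ[A] E := LinearMap.llcomp A B' _ _ π
  let φ : B' →ₗ[A] E ⧸ LinearMap.range πs := (LinearMap.range πs).mkQ.comp (LinearMap.mul A B')
  suffices ∃ s : B', s ∉ q ∧ φ s = 0 by
    obtain ⟨s, hs, hs0⟩ := this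
    obtain ⟨b, hb⟩ := (Submodule.Quotient.mk_eq_zero _).1 hs0
    exact ⟨s, hs, k, π, b, hb⟩
  by_contra! hne
  let p := q.comap (algebraMap A B')
  have : q.LiesOver p := ⟨rfl⟩
  obtain ⟨R', _, _, _, P, _, _, e, he, P', _, _, hP'q, heP', -, -, huniq⟩ :=
    Algebra.exists_etale_isIdempotentElem_forall_liesOver_eq p q
  have : IsNoetherianRing R' := Algebra.FiniteType.isNoetherianRing A R'
  have hflat' : Module.Flat R' (Localization.AtPrime P') := by
    let Θ : R' ⊗[A] B' →ₐ[R'] R' ⊗[A] Localization.AtPrime q :=
      Algebra.TensorProduct.map (AlgHom.id R' R')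
        (IsScalarTower.toAlgHom A B' (Localization.AtPrime q))
    let : Algebra (R' ⊗[A] B') (R' ⊗[A] Localization.AtPrime q) := Θ.toAlgebra
    have : IsScalarTower R' (R' ⊗[A] B') (R' ⊗[A] Localization.AtPrime q) :=
      IsScalarTower.of_algebraMap_eq fun r => (Θ.commutes r).symm
    let Minc := q.primeCompl.map (Algebra.TensorProduct.includeRight (R := A) (A := R'))
    have : IsLocalization Minc (R' ⊗[A] Localization.AtPrime q) :=
      IsLocalization.tensorProduct_tensorProduct_right A R' q.primeCompl (Localization.AtPrime q)
        (RingHom.ext fun x => by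
          show Θ (1 ⊗ₜ[A] x) = _
          simp [Θ])
    have hle : Minc ≤ P'.primeCompl := by
      rintro _ ⟨x, hx, rfl⟩ hmem
      exact hx (by rw [← hP'q]; exact hmem)
    let g : R' ⊗[A] Localization.AtPrime q →ₐ[R' ⊗[A] B'] Localization.AtPrime P' :=
      IsLocalization.liftAlgHom (M := Minc) (f := Algebra.ofId _ (Localization.AtPrime P'))
        fun s => IsLocalization.map_units _ (⟨s.1, hle s.2⟩ : P'.primeCompl)
    let : Algebra (R' ⊗[A] Localization.AtPrime q) (Localization.AtPrime P') := g.toAlgebra
    have : IsScalarTower (R' ⊗[A] B') (R' ⊗[A] Localization.AtPrime q) (Localization.AtPrime P') :=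
      IsScalarTower.of_algebraMap_eq fun r => (g.commutes r).symm
    have : IsScalarTower R' (R' ⊗[A] Localization.AtPrime q) (Localization.AtPrime P') :=
      IsScalarTower.of_algebraMap_eq (R := R') (S := R' ⊗[A] Localization.AtPrime q)
        (A := Localization.AtPrime P') fun r => by
        rw [IsScalarTower.algebraMap_apply R' (R' ⊗[A] B') (R' ⊗[A] Localization.AtPrime q),
          ← IsScalarTower.algebraMap_apply (R' ⊗[A] B') (R' ⊗[A] Localization.AtPrime q)
            (Localization.AtPrime P'),
          ← IsScalarTower.algebraMap_apply R' (R' ⊗[A] B') (Localization.AtPrime P')]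
    have := IsLocalization.isLocalization_of_submonoid_le (R' ⊗[A] Localization.AtPrime q)
      (Localization.AtPrime P') Minc P'.primeCompl hle
    have : Module.Flat (R' ⊗[A] Localization.AtPrime q) (Localization.AtPrime P') :=
      IsLocalization.flat _ (P'.primeCompl.map (algebraMap (R' ⊗[A] B') _))
    exact Module.Flat.trans R' (R' ⊗[A] Localization.AtPrime q) _
  obtain ⟨t, htP, l, a, b, hab⟩ := exists_factor_free e he P P' inferInstance heP' huniq hflat'
  let π' : R' ⊗[A] (Fin k → A) →ₗ[R'] R' ⊗[A] B' := π.baseChange R'
  have hπ' : Function.Surjective π' := LinearMap.lTensor_surjective R' hπ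
  obtain ⟨γ, hγ⟩ := Module.projective_lifting_property π' a hπ'
  have hfac : π' ∘ₗ (γ ∘ₗ b) = LinearMap.mulLeft R' t := by rw [← LinearMap.comp_assoc, hγ, hab]
  have : Module.FinitePresentation A B' := Module.finitePresentation_of_finite A B'
  have hH := Module.FinitePresentation.isBaseChange_map A B' (Fin k → A) R'
  have hE := Module.FinitePresentation.isBaseChange_map A B' B' R'
  obtain ⟨β, hβ⟩ := hH.equiv.surjective (γ ∘ₗ b)
  have h1 : ∀ z, hE.equiv (πs.lTensor R' z) = π' ∘ₗ hH.equiv z := by
    intro z
    induction z with
    | zero => simp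
    | add x y hx hy => rw [map_add, map_add, map_add, hx, hy, LinearMap.comp_add]
    | tmul r h =>
      rw [LinearMap.lTensor_tmul, IsBaseChange.equiv_tmul, IsBaseChange.equiv_tmul]
      ext x
      simp [π', πs, LinearMap.baseChangeHom]
      rfl
  have h2 : ∀ t : R' ⊗[A] B', hE.equiv ((LinearMap.mul A B').lTensor R' t) =
      LinearMap.mulLeft R' t := by
    intro t
    induction t with
    | zero => simp
    | add x y hx hy =>
      rw [map_add, map_add, hx, hy]
      exact LinearMap.ext fun z => (add_mul x y z).symm
    | tmul r x =>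
      rw [LinearMap.lTensor_tmul, IsBaseChange.equiv_tmul]
      ext y
      simp [LinearMap.baseChangeHom, Algebra.TensorProduct.tmul_mul_tmul, TensorProduct.smul_tmul']
  have h3 : (LinearMap.mul A B').lTensor R' t = πs.lTensor R' β :=
    hE.equiv.injective (by rw [h2, h1, hβ, hfac])
  have h4 : φ.lTensor R' t = 0 := by
    rw [LinearMap.lTensor_comp, LinearMap.comp_apply, h3, ← LinearMap.comp_apply,
      ← LinearMap.lTensor_comp, show (LinearMap.range πs).mkQ.comp πs = 0 from
        LinearMap.range_le_ker_iff.1 (le_of_eq (Submodule.ker_mkQ _).symm),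
      LinearMap.lTensor_zero, LinearMap.zero_apply]
  obtain ⟨u, hu⟩ := ((Module.Flat.lTensor_exact R' (LinearMap.exact_subtype_ker_map φ)) t).1 h4
  refine htP ?_
  have hmem : ∀ u, (LinearMap.ker φ).subtype.lTensor R' u ∈ P' := by
    intro u
    induction u with
    | zero => simp
    | add x y hx hy => rw [map_add]; exact add_mem hx hy
    | tmul r x =>
      have : (x : B') ∈ q := by
        by_contra hx
        exact hne x hx x.2
      rw [← hP'q, Ideal.mem_comap] at this
      rw [LinearMap.lTensor_tmul, Submodule.subtype_apply, ← mul_one r, ← one_mul (x : B'),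
        ← Algebra.TensorProduct.tmul_mul_tmul]
      exact Ideal.mul_mem_left _ _ this
  rw [← hu]
  exact hmem u

omit [IsNoetherianRing A] in
theorem flat_omega_baseChange [IsNoetherianRing A] {B : Type u} [CommRing B] [Algebra A B]
    [Algebra B' B] [IsScalarTower A B' B] [Module.Flat A B]
    (h : AlgebraicGeometry.IsOpenImmersion
      (AlgebraicGeometry.Spec.map (CommRingCat.ofHom (algebraMap B' B)))) :
    Module.Flat A (B ⊗[B'] Omega A B') := by
  have hBflat : Module.Flat B' B := by
    have : AlgebraicGeometry.Flat
        (AlgebraicGeometry.Spec.map (CommRingCat.ofHom (algebraMap B' B))) := inferInstance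
    exact RingHom.flat_algebraMap_iff.1
      ((AlgebraicGeometry.HasRingHomProperty.Spec_iff (P := @AlgebraicGeometry.Flat)).1 this)
  let mA : Module A (Omega A B') := Module.compHom _ (algebraMap A B')
  have : IsScalarTower A B' (Omega A B') := IsScalarTower.of_algebraMap_smul fun r x => rfl
  rw [Module.Flat.iff_lTensor_preserves_injective_linearMap]
  intro N N' _ _ _ _ g hg
  let G : Omega A B' ⊗[A] N →ₗ[B'] Omega A B' ⊗[A] N' :=
    AlgebraTensorModule.map LinearMap.id g
  let asN := fun (X : Type u) [AddCommGroup X] [Module A X] =>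
    AlgebraTensorModule.assoc A B' B' B (Omega A B') X
  have hcomm : ∀ z, asN N' (g.lTensor (B ⊗[B'] Omega A B') z) = G.lTensor B (asN N z) := by
    intro z
    induction z with
    | zero => simp
    | add x y hx hy => simp only [map_add, hx, hy]
    | tmul w m =>
      induction w with
      | zero => simp
      | add x y hx hy => simp only [add_tmul, map_add, hx, hy]
      | tmul b l => simp [asN, G]
  have hker : ∀ z, G.lTensor B z = 0 → z = 0 := by
    intro z hz
    obtain ⟨w, rfl⟩ := ((Module.Flat.lTensor_exact B (LinearMap.exact_subtype_ker_map G)) z).1 hz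
    suffices w = 0 by rw [this, map_zero]
    by_contra hw
    obtain ⟨Pm, hPm, hle⟩ := Ideal.exists_le_maximal
      ((⊥ : Submodule B (B ⊗[B'] LinearMap.ker G)).colon {w}) fun ht => hw (by
      have := Submodule.mem_colon_singleton.1 (show (1 : B) ∈ (⊥ : Submodule B _).colon {w} by
        rw [ht]; trivial)
      simpa using this)
    let q := Pm.comap (algebraMap B' B)
    have hqflat : Module.Flat A (Localization.AtPrime q) := by
      let ψ : Localization.AtPrime q →+* Localization.AtPrime Pm := Localization.localRingHom q Pm _ rfl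
      have : IsLocalHom ψ := Localization.isLocalHom_localRingHom q Pm _ rfl
      refine RingHom.flat_algebraMap_iff.1 (FlatMor66.flat_of_comp_localHom _ ψ
        (RingHom.Flat.localRingHom (RingHom.flat_algebraMap_iff.2 hBflat) Pm q rfl) ?_)
      have hf : Module.Flat A (Localization.AtPrime Pm) :=
        Module.Flat.trans A B (Localization.AtPrime Pm)
      have e : ψ.comp (algebraMap A (Localization.AtPrime q)) =
          algebraMap A (Localization.AtPrime Pm) := RingHom.ext fun r => by
        rw [RingHom.comp_apply, IsScalarTower.algebraMap_apply A B' (Localization.AtPrime q),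
          Localization.localRingHom_to_map, ← IsScalarTower.algebraMap_apply A B' B,
          ← IsScalarTower.algebraMap_apply A B (Localization.AtPrime Pm)]
      rw [e]
      exact RingHom.flat_algebraMap_iff.2 hf
    obtain ⟨s, hs, k, a, b, hab⟩ := exists_factor q hqflat
    let β : Omega A B' →ₗ[A] (Fin k → A) := LinearMap.pi fun i =>
      { toFun := fun l => l.toLinearMap (a (Pi.single i 1))
        map_add' := fun x y => rfl
        map_smul' := fun r x => by
          show x.toLinearMap (algebraMap A B' r * a (Pi.single i 1)) = _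
          rw [← Algebra.smul_def, map_smul]; rfl }
    let α : (Fin k → A) →ₗ[A] Omega A B' := Fintype.linearCombination A fun i =>
      (⟨LinearMap.proj i ∘ₗ b⟩ : Omega A B')
    have hfac : ∀ l : Omega A B', s • l = α (β l) := by
      intro l
      refine Omega.ext (LinearMap.ext fun y => ?_)
      let f : Omega A B' →+ A := AddMonoidHom.mk' (fun l => l.toLinearMap y) fun x x' => rfl
      show l.toLinearMap (s * y) = f (α (β l))
      simp only [α, β, Fintype.linearCombination_apply, map_sum, LinearMap.pi_apply]
      show _ = ∑ i, f (algebraMap A B' (l.toLinearMap (a (Pi.single i 1))) • _)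
      simp only [f, AddMonoidHom.mk'_apply, Omega.smul_toLinearMap_apply, ← Algebra.smul_def,
        map_smul, LinearMap.comp_apply, LinearMap.proj_apply, smul_eq_mul]
      rw [show s * y = a (b y) from (LinearMap.congr_fun hab y).symm]
      conv_lhs => rw [pi_eq_sum_univ' (b y), map_sum, map_sum]
      simp [mul_comm]
    have hkill : ∀ x : LinearMap.ker G, s • x = 0 := by
      rintro ⟨x, hx⟩
      refine Subtype.ext ?_
      show s • x = 0
      have h1 : ∀ x, s • x = α.rTensor N (β.rTensor N x) := by
        intro x
        induction x with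
        | zero => simp
        | add x y hx hy => simp only [smul_add, map_add, hx, hy]
        | tmul l m => simp [← hfac, TensorProduct.smul_tmul']
      have h2 : g.lTensor (Fin k → A) (β.rTensor N x) = 0 := by
        have : ∀ x, g.lTensor (Fin k → A) (β.rTensor N x) = β.rTensor N' (G x) := by
          intro x
          induction x with
          | zero => simp
          | add x y hx hy => simp only [map_add, hx, hy]
          | tmul l m => simp [G]
        rw [this, LinearMap.mem_ker.1 hx, map_zero]
      have h3 : β.rTensor N x = 0 :=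
        (injective_iff_map_eq_zero _).1
          (Module.Flat.lTensor_preserves_injective_linearMap (M := Fin k → A) g hg) _ h2
      rw [h1, h3, map_zero]
    refine hs (hle (Submodule.mem_colon_singleton.2 ?_))
    rw [Submodule.mem_bot, algebraMap_smul]
    clear hle hw hz
    induction w with
    | zero => simp
    | add x y hx hy => rw [smul_add, hx, hy, add_zero]
    | tmul c x => rw [← TensorProduct.tmul_smul, hkill, TensorProduct.tmul_zero]
  refine (injective_iff_map_eq_zero _).2 fun z hz => ?_
  refine (asN N).injective ((hker _ ?_).trans (map_zero _).symm)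
  rw [← hcomm, hz, map_zero]

end Groth.Agent.DiscDual32
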