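import Groth.Agent.DiscDual32.Basic
import Groth.Agent.Gor18.Local
import Groth.Agent.Gor18.Basic
import Groth.Prelude.Def_CAlg
import Mathlib.LinearAlgebra.Matrix.ToLinearEquiv
import Mathlib.RingTheory.Artinian.Ring
import Mathlib.RingTheory.LocalRing.ResidueField.Fiber
import Mathlib.RingTheory.QuasiFinite.Basic

/-!
# Gorenstein fibres and invertibility of the dualising module of a finite free algebra
-/

set_option autoImplicit false

noncomputable section

namespace Groth.Agent.DiscDual32

open TensorProduct Disc Matrix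

universe u

variable {A B : Type u} [CommRing A] [CommRing B] [Algebra A B]

section Gram

variable {ι : Type u} [Fintype ι] [DecidableEq ι] (b : Module.Basis ι A B)

/-- The Gram matrix of a functional. -/
def gram (φ : Omega A B) : Matrix ι ι A := Matrix.of fun i j => φ.toLinearMap (b i * b j)

omit [DecidableEq ι] in
theorem gram_mulVec (φ : Omega A B) (v : ι → A) (i : ι) :
    (gram b φ *ᵥ v) i = φ.toLinearMap ((∑ j, v j • b j) * b i) := by
  simp only [gram, Matrix.mulVec, dotProduct, Matrix.of_apply, Finset.sum_mul, map_sum,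
    smul_mul_assoc, map_smul, smul_eq_mul]
  exact Finset.sum_congr rfl fun j _ => by rw [mul_comm (v j), mul_comm (b i)]

theorem det_mul_eq_zero (φ : Omega A B) (x : B) (hx : x • φ = 0) :
    algebraMap A B (gram b φ).det * x = 0 := by
  have hv : gram b φ *ᵥ (fun j => b.repr x j) = 0 := funext fun i => by
    rw [gram_mulVec, b.sum_repr]
    exact LinearMap.congr_fun (congrArg Omega.toLinearMap hx) (b i)
  have h := congrArg (Matrix.adjugate (gram b φ) *ᵥ ·) hv
  simp only [Matrix.mulVec_mulVec, Matrix.adjugate_mul, Matrix.smul_mulVec, Matrix.one_mulVec,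
    Matrix.mulVec_zero] at h
  rw [← Algebra.smul_def]
  refine b.repr.injective (Finsupp.ext fun i => ?_)
  simpa using congrFun h i

/-- The inverse of `c ↦ c • φ`, up to the Gram determinant. -/
def solve (φ χ : Omega A B) : B :=
  ∑ j, (Matrix.adjugate (gram b φ) *ᵥ fun i => χ.toLinearMap (b i)) j • b j

theorem solve_smul (φ χ : Omega A B) :
    solve b φ χ • φ = algebraMap A B (gram b φ).det • χ := by
  refine Omega.ext (b.ext fun i => ?_)
  rw [solve, Omega.smul_toLinearMap_apply, ← gram_mulVec, Matrix.mulVec_mulVec, Matrix.mul_adjugate,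
    Matrix.smul_mulVec, Matrix.one_mulVec, Omega.smul_toLinearMap_apply, ← Algebra.smul_def,
    map_smul]
  rfl

/-- `det • solve` is linear over `B`. -/
def coordMap (φ : Omega A B) : Omega A B →ₗ[B] B where
  toFun χ := algebraMap A B (gram b φ).det * solve b φ χ
  map_add' χ χ' := by
    rw [← mul_add, ← sub_eq_zero, ← mul_sub]
    refine det_mul_eq_zero b φ _ ?_
    rw [sub_smul, add_smul, solve_smul, solve_smul, solve_smul, smul_add, sub_self]
  map_smul' c χ := by
    rw [RingHom.id_apply, smul_eq_mul, mul_left_comm, ← sub_eq_zero, ← mul_sub]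
    refine det_mul_eq_zero b φ _ ?_
    rw [sub_smul, mul_smul, solve_smul, solve_smul, smul_comm, sub_self]

theorem coordMap_smul (φ χ : Omega A B) :
    coordMap b φ χ • φ = algebraMap A B ((gram b φ).det * (gram b φ).det) • χ := by
  show (algebraMap A B (gram b φ).det * solve b φ χ) • φ = _
  rw [mul_smul, solve_smul, map_mul, mul_smul]

theorem coordMap_self (φ : Omega A B) :
    algebraMap A B ((gram b φ).det * (gram b φ).det) * coordMap b φ φ =
      algebraMap A B ((gram b φ).det * (gram b φ).det) *
        algebraMap A B ((gram b φ).det * (gram b φ).det) := by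
  rw [← sub_eq_zero, ← mul_sub, map_mul, mul_assoc, mul_left_comm]
  rw [det_mul_eq_zero b φ (algebraMap A B (gram b φ).det *
    (coordMap b φ φ - algebraMap A B (gram b φ).det * algebraMap A B (gram b φ).det)) ?_]
  · rw [mul_smul, sub_smul, coordMap_smul, map_mul, sub_self, smul_zero]

include b in
/-- If the Gram determinants generate the unit ideal, then `ω` is invertible. -/
theorem invertible_of_span_det
    (h : Ideal.span (Set.range fun φ : Omega A B => (gram b φ).det) = ⊤) :
    Module.Invertible B (Omega A B) := by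
  have h4 := Ideal.span_pow_eq_top _ h 4
  rw [← Set.range_comp, Ideal.eq_top_iff_one, Finsupp.mem_ideal_span_range_iff_exists_finsupp] at h4
  obtain ⟨a, ha⟩ := h4
  simp only [Function.comp_apply] at ha
  let d : Omega A B → B := fun φ => algebraMap A B ((gram b φ).det * (gram b φ).det)
  let e : Module.Dual B (Omega A B) ⊗[B] Omega A B :=
    a.sum fun φ c => (algebraMap A B c * d φ) • (coordMap b φ ⊗ₜ[B] φ)
  have hsum : (a.sum fun φ c => algebraMap A B c * (d φ * d φ)) = 1 := by
    rw [← map_one (algebraMap A B), ← ha, Finsupp.sum, Finsupp.sum, map_sum]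
    refine Finset.sum_congr rfl fun φ _ => ?_
    simp only [d, map_mul, map_pow]
    ring
  have he : contractLeft B (Omega A B) e = 1 := by
    rw [← hsum]
    simp only [e, map_finsuppSum, map_smul, contractLeft_apply, smul_eq_mul]
    exact Finsupp.sum_congr fun φ _ => by rw [mul_assoc, coordMap_self]
  refine ⟨⟨fun z z' hz => ?_, fun x => ⟨x • e, by rw [map_smul, he, smul_eq_mul, mul_one]⟩⟩⟩
  suffices ∀ z, z = contractLeft B (Omega A B) z • e by rw [this z, this z', hz]
  intro z
  induction z with
  | zero => simp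
  | add x y hx hy => conv_lhs => rw [hx, hy]; rw [← add_smul, ← map_add]
  | tmul f χ =>
    have key : ∀ φ, (d φ * d φ) • (f ⊗ₜ[B] χ) = (f χ * d φ) • (coordMap b φ ⊗ₜ[B] φ) := by
      intro φ
      have h1 : (d φ * coordMap b φ χ) • f = (f χ * d φ) • coordMap b φ := by
        refine LinearMap.ext fun θ => ?_
        simp only [LinearMap.smul_apply, smul_eq_mul]
        have h2 : f (coordMap b φ χ • (coordMap b φ θ • φ)) =
            f (coordMap b φ θ • (coordMap b φ χ • φ)) := by rw [smul_comm]
        rw [coordMap_smul, coordMap_smul, map_smul, map_smul, map_smul, map_smul] at h2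
        simp only [smul_eq_mul] at h2
        linear_combination h2
      rw [TensorProduct.smul_tmul', TensorProduct.smul_tmul']
      calc ((d φ * d φ) • f) ⊗ₜ[B] χ = (d φ • f) ⊗ₜ[B] (d φ • χ) := by
            rw [mul_smul, TensorProduct.smul_tmul]
        _ = (d φ • f) ⊗ₜ[B] (coordMap b φ χ • φ) := by rw [coordMap_smul]
        _ = ((f χ * d φ) • coordMap b φ) ⊗ₜ[B] φ := by
            rw [← TensorProduct.smul_tmul, ← mul_smul, mul_comm (coordMap b φ χ), h1]
    calc f ⊗ₜ[B] χ = (a.sum fun φ c => algebraMap A B c * (d φ * d φ)) • (f ⊗ₜ[B] χ) := by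
          rw [hsum, one_smul]
      _ = f χ • e := by
          simp only [e, Finsupp.sum, Finset.sum_smul, Finset.smul_sum]
          refine Finset.sum_congr rfl fun φ _ => ?_
          rw [mul_smul, key, smul_smul, smul_smul]
          congr 1
          ring
      _ = _ := by rw [contractLeft_apply]

include b in
/-- Conversely, an invertible `ω` has a functional with Gram determinant outside any given prime. -/
theorem exists_det_notMem [Module.Invertible B (Omega A B)] (p : Ideal A) [p.IsPrime] :
    ∃ φ : Omega A B, (gram b φ).det ∉ p := by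
  classical
  let T := Algebra.algebraMapSubmonoid B p.primeCompl
  let L := Localization T
  let Rp := Localization.AtPrime p
  have : Module.Finite A B := Module.Finite.of_basis b
  have : Module.Finite Rp L := by
    have := IsLocalizedModule.linearEquiv p.primeCompl
      (LocalizedModule.mkLinearMap p.primeCompl B) (IsScalarTower.toAlgHom A B L).toLinearMap
    exact Module.Finite.equiv (this.extendScalarsOfIsLocalization p.primeCompl Rp)
  have hfin : Finite (MaximalSpectrum L) := by
    have : Finite (p.primesOver B) := (Algebra.QuasiFinite.finite_primesOver p).to_subtype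
    have hover : ∀ M : MaximalSpectrum L, (M.asIdeal.comap (algebraMap B L)).LiesOver p := by
      intro M
      constructor
      refine le_antisymm (fun r hr => ?_) (fun r hr => ?_)
      · have hmax : (M.asIdeal.under Rp).IsMaximal := Ideal.IsMaximal.under Rp M.asIdeal
        have e1 : M.asIdeal.under Rp = IsLocalRing.maximalIdeal Rp := IsLocalRing.eq_maximalIdeal hmax
        have : algebraMap A Rp r ∈ M.asIdeal.under Rp := by
          rw [e1]; exact (IsLocalization.AtPrime.to_map_mem_maximal_iff Rp p r).2 hr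
        show algebraMap B L (algebraMap A B r) ∈ M.asIdeal
        rw [← IsScalarTower.algebraMap_apply A B L, IsScalarTower.algebraMap_apply A Rp L]
        exact this
      · by_contra hrp
        exact M.isMaximal.ne_top (Ideal.eq_top_of_isUnit_mem _
          (show algebraMap B L (algebraMap A B r) ∈ M.asIdeal from hr)
          (IsLocalization.map_units L (⟨algebraMap A B r, r, hrp, rfl⟩ : T)))
    refine Finite.of_injective
      (fun M => (⟨M.asIdeal.comap (algebraMap B L),
        ⟨Ideal.IsPrime.comap _, hover M⟩⟩ : p.primesOver B)) fun M M' h => ?_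
    exact MaximalSpectrum.ext (by
      rw [← IsLocalization.map_comap T L M.asIdeal, ← IsLocalization.map_comap T L M'.asIdeal]
      exact congrArg (fun q : Ideal B => q.map (algebraMap B L)) (congrArg Subtype.val h))
  obtain ⟨g⟩ := Module.Invertible.free_iff_linearEquiv.1
    (inferInstance : Module.Free L (LocalizedModule T (Omega A B)))
  obtain ⟨⟨φ, s₀⟩, hφ⟩ := IsLocalizedModule.surj T (LocalizedModule.mkLinearMap T (Omega A B))
    (g.symm 1)
  have hgen : ∀ χ : Omega A B, ∃ t : A, t ∉ p ∧ ∃ c : B, algebraMap A B t • χ = c • φ := by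
    intro χ
    obtain ⟨⟨c, s⟩, hc⟩ := IsLocalization.surj T (g (LocalizedModule.mkLinearMap T _ χ))
    have hc' : (algebraMap B L (s₀ * s : T)) • LocalizedModule.mkLinearMap T _ χ =
        algebraMap B L c • LocalizedModule.mkLinearMap T (Omega A B) φ := by
      apply g.injective
      have h0 : g (LocalizedModule.mkLinearMap T (Omega A B) φ) = algebraMap B L s₀ := by
        rw [← hφ, Submonoid.smul_def, ← algebraMap_smul L, map_smul,
          LinearEquiv.apply_symm_apply, smul_eq_mul, mul_one]
      rw [map_smul, map_smul, h0, smul_eq_mul, smul_eq_mul, ← hc, Submonoid.coe_mul, map_mul]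
      ring
    rw [algebraMap_smul, algebraMap_smul, ← map_smul, ← map_smul] at hc'
    obtain ⟨u, hu⟩ := IsLocalizedModule.exists_of_eq (S := T) hc'
    obtain ⟨t, ht, htu⟩ := (u * (s₀ * s)).2
    refine ⟨t, ht, u * c, ?_⟩
    rw [htu, Submonoid.coe_mul, mul_smul, mul_smul]
    simpa only [Submonoid.smul_def] using hu
  choose t ht c hc using fun i => hgen ⟨b.coord i⟩
  refine ⟨φ, fun hmem => ?_⟩
  have hdiag : gram b φ * Matrix.of (fun j i => b.repr (c i) j) = Matrix.diagonal t := by
    refine Matrix.ext fun k i => ?_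
    have h1 := gram_mulVec b φ (fun j => b.repr (c i) j) k
    rw [b.sum_repr] at h1
    have h2 := LinearMap.congr_fun (congrArg Omega.toLinearMap (hc i)) (b k)
    simp only [Omega.smul_toLinearMap_apply, ← Algebra.smul_def, map_smul, Module.Basis.coord_apply,
      Module.Basis.repr_self, smul_eq_mul] at h2
    rw [Matrix.mul_apply]
    change ∑ j, gram b φ k j * b.repr (c i) j = _
    change ∑ j, gram b φ k j * b.repr (c i) j = _ at h1
    rw [h1, ← h2]
    simp [Matrix.diagonal_apply, Finsupp.single_apply]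
    aesop
  have h3 := congrArg Matrix.det hdiag
  rw [Matrix.det_mul, Matrix.det_diagonal] at h3
  have : ∏ i, t i ∈ p := h3 ▸ p.mul_mem_right _ hmem
  obtain ⟨i, -, hi⟩ := Ideal.IsPrime.prod_mem_iff.1 this
  exact ht i hi

end Gram

section Field

variable {κ F : Type u} [Field κ] [CommRing F] [Algebra κ F]
variable {ι : Type u} [Fintype ι] [DecidableEq ι] (b : Module.Basis ι κ F)

theorem det_ne_zero_iff (ψ : F →ₗ[κ] κ) :
    (gram b ⟨ψ⟩).det ≠ 0 ↔ ∀ x : F, (∀ r, ψ (r * x) = 0) → x = 0 := by
  constructor
  · intro h x hx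
    have := det_mul_eq_zero b ⟨ψ⟩ x (Omega.ext (LinearMap.ext fun r => by
      simpa [mul_comm] using hx r))
    rw [← Algebra.smul_def] at this
    exact (smul_eq_zero.1 this).resolve_left h
  · intro h hdet
    obtain ⟨v, hv, hv0⟩ := Matrix.exists_mulVec_eq_zero_iff.2 hdet
    have hx : ∑ j, v j • b j = 0 := h _ fun r => by
      rw [mul_comm, ← b.sum_repr r, Finset.mul_sum, map_sum]
      refine Finset.sum_eq_zero fun i _ => ?_
      have h1 := gram_mulVec b ⟨ψ⟩ v i
      rw [hv0] at h1
      rw [mul_smul_comm, map_smul, ← h1, Pi.zero_apply, smul_zero]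
    exact hv (funext fun j => by
      simpa [Finsupp.single_apply] using congrArg (fun z => b.repr z j) hx)

/-- A Frobenius algebra is Gorenstein. -/
theorem gor_of_nondegenerate [Module.Finite κ F] (ψ : F →ₗ[κ] κ)
    (h : ∀ x : F, (∀ r, ψ (r * x) = 0) → x = 0) : LocCoh.IsGorensteinRing F := by
  have : IsArtinianRing F := IsArtinianRing.of_finite κ F
  let Ψ : F →ₗ[κ] (F →ₗ[κ] κ) := (LinearMap.llcomp κ F F κ ψ).comp (LinearMap.mul κ F)
  have hΨ : Function.Injective Ψ := (injective_iff_map_eq_zero _).2 fun x hx =>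
    h x fun r => by simpa [Ψ, mul_comm] using LinearMap.congr_fun hx r
  have hsurj : Function.Surjective Ψ :=
    (LinearMap.injective_iff_surjective_of_finrank_eq_finrank
      (Subspace.dual_finrank_eq (K := κ) (V := F)).symm).1 hΨ
  have hinj : Module.Injective F F := Module.Baer.injective fun I f => by
    obtain ⟨l, hl⟩ := LinearMap.exists_extend (ψ.comp (f.restrictScalars κ) :
      (I.restrictScalars κ) →ₗ[κ] κ)
    obtain ⟨y, hy⟩ := hsurj l
    refine ⟨LinearMap.mulLeft F y, fun x hx => ?_⟩
    rw [LinearMap.mulLeft_apply, ← sub_eq_zero]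
    refine h _ fun r => ?_
    have h1 := LinearMap.congr_fun hl ⟨r * x, I.mul_mem_left r hx⟩
    have h2 : f ⟨r * x, I.mul_mem_left r hx⟩ = r * f ⟨x, hx⟩ := f.map_smul r ⟨x, hx⟩
    simp only [LinearMap.comp_apply, Submodule.subtype_apply, LinearMap.restrictScalars_apply,
      ← hy] at h1
    simp only [Ψ, LinearMap.comp_apply, LinearMap.llcomp_apply, LinearMap.mul_apply'] at h1
    rw [mul_sub, map_sub, sub_eq_zero, ← h2, mul_left_comm, h1]
    rfl
  refine { isGorensteinLocalRing_localization := fun q _ => ?_ }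
  have : CategoryTheory.Injective (ModuleCat.of F F) :=
    Module.injective_object_of_injective_module (inj := hinj) F F
  have h0 : CategoryTheory.HasInjectiveDimensionLE (ModuleCat.of F F) 0 :=
    CategoryTheory.injective_iff_hasInjectiveDimensionLT_one.1 this
  have h1 := Gor18.injDimLE_localization q.primeCompl h0
  exact { exists_hasInjectiveDimensionLT := ⟨1, h1⟩ }

/-- A Gorenstein finite algebra over a field is Frobenius. -/
theorem exists_nondegenerate [Module.Finite κ F] [LocCoh.IsGorensteinRing F] :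
    ∃ ψ : F →ₗ[κ] κ, ∀ x : F, (∀ r, ψ (r * x) = 0) → x = 0 := by
  classical
  have : IsArtinianRing F := IsArtinianRing.of_finite κ F
  let J := {m : MaximalSpectrum F // ∃ s : F, s ≠ 0 ∧ ∀ a ∈ m.asIdeal, a * s = 0}
  let : Fintype J := Fintype.ofFinite J
  choose s hs0 hs using fun m : J => m.2
  have hli : LinearIndependent κ s := by
    rw [Fintype.linearIndependent_iff]
    intro c hc m
    by_contra hcm
    obtain ⟨e, he, hem⟩ : ∃ e : F, (∀ m' : J, m' ≠ m → e ∈ m'.1.asIdeal) ∧ e ∉ m.1.asIdeal := by
      have : ¬ (Finset.univ.erase m).inf (fun m' : J => m'.1.asIdeal) ≤ m.1.asIdeal := by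
        intro hle
        obtain ⟨m', hm', hle'⟩ := (Ideal.IsPrime.inf_le' inferInstance).1 hle
        exact (Finset.ne_of_mem_erase hm')
          (Subtype.ext (MaximalSpectrum.ext (m'.1.isMaximal.eq_of_le m.1.isMaximal.ne_top hle')))
      obtain ⟨e, he, hem⟩ := SetLike.not_le_iff_exists.1 this

      exact ⟨e, fun m' hm' => (Submodule.mem_finsetInf.1 he) m' (by simp [hm']), hem⟩
    have h1 := congrArg (e * ·) hc
    simp only [Finset.mul_sum, mul_zero, mul_smul_comm] at h1
    rw [Finset.sum_eq_single m (fun m' _ hm' => by rw [hs m' e (he m' hm'), smul_zero])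
      (by simp)] at h1
    obtain ⟨v, z, hz, hvz⟩ := m.1.isMaximal.exists_inv hem
    exact hs0 m (by
      calc s m = v * (e * s m) + z * s m := by rw [← mul_assoc, ← add_mul, hvz, one_mul]
        _ = 0 := by rw [(smul_eq_zero.1 h1).resolve_left hcm, hs m z hz, mul_zero, add_zero])
  obtain ⟨g, hg⟩ := LinearMap.exists_leftInverse_of_injective
    (Finsupp.linearCombination κ s) (LinearMap.ker_eq_bot.2 hli)
  let ψ : F →ₗ[κ] κ := (Finsupp.linearCombination κ fun _ : J => (1 : κ)).comp g
  have hψ : ∀ m, ψ (s m) = 1 := fun m => by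
    have := LinearMap.congr_fun hg (Finsupp.single m 1)
    simp only [LinearMap.comp_apply, Finsupp.linearCombination_single, one_smul,
      LinearMap.id_apply] at this
    simp [ψ, this]
  refine ⟨ψ, fun x hx => ?_⟩
  by_contra hx0
  obtain ⟨y, ⟨r, rfl⟩, hy0, hmin⟩ : ∃ y, (∃ r, y = r * x) ∧ y ≠ 0 ∧
      ∀ a : F, a * y ≠ 0 → ∃ b, y = b * (a * y) := by
    obtain ⟨I, ⟨r, hr, rfl⟩, hmin⟩ := (IsArtinian.set_has_minimal (M := F) (R := F)
      {I | ∃ r, r * x ≠ 0 ∧ Ideal.span {r * x} = I}) ⟨_, 1, by simpa using hx0, rfl⟩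
    refine ⟨r * x, ⟨r, rfl⟩, hr, fun a ha => ?_⟩
    have h1 := hmin (Ideal.span {a * (r * x)}) ⟨a * r, by rwa [mul_assoc], by rw [mul_assoc]⟩
    have h2 : Ideal.span {r * x} ≤ Ideal.span {a * (r * x)} :=
      le_of_eq (eq_of_le_of_not_lt (Ideal.span_singleton_le_span_singleton.2
        (dvd_mul_left _ _)) h1).symm
    obtain ⟨b, hb⟩ := Ideal.span_singleton_le_span_singleton.1 h2
    exact ⟨b, hb.trans (mul_comm _ _)⟩
  let m : Ideal F := LinearMap.ker (LinearMap.toSpanSingleton F F (r * x))
  have hmem : ∀ a, a ∈ m ↔ a * (r * x) = 0 := fun a => Iff.rfl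
  have hm : m.IsMaximal := Ideal.isMaximal_iff.2 ⟨fun h => hy0 (by simpa using (hmem 1).1 h),
    fun K a hle ha haK => by
      obtain ⟨b, hb⟩ := hmin a (fun h => ha ((hmem a).2 h))
      have h1 : (1 : F) - b * a ∈ K := hle ((hmem _).2 (by rw [sub_mul, one_mul, mul_assoc, ← hb, sub_self]))
      simpa using K.add_mem h1 (K.mul_mem_left b haK)⟩
  let j : J := ⟨⟨m, hm⟩, r * x, hy0, fun a ha => (hmem a).1 ha⟩
  let Fm := Localization.AtPrime m
  have : IsArtinianRing Fm := (IsArtinianRing.localization_surjective m.primeCompl Fm).isArtinianRing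
  have : LocCoh.IsGorensteinLocalRing Fm :=
    LocCoh.IsGorensteinRing.isGorensteinLocalRing_localization m
  have hsimple := Gor18.artinian_gor_iff_simple_socle.1 (inferInstance : LocCoh.IsGorensteinLocalRing Fm)
  have hkey : ∀ z : F, (∀ a ∈ m, a * z = 0) → algebraMap F Fm z = 0 → z = 0 := by
    intro z hz h0
    obtain ⟨u, hu⟩ := (IsLocalization.map_eq_zero_iff m.primeCompl Fm z).1 h0
    obtain ⟨v, w, hw, hvw⟩ := hm.exists_inv (show (u : F) ∉ m from u.2)
    calc z = v * (u * z) + w * z := by rw [← mul_assoc, ← add_mul, hvw, one_mul]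
      _ = 0 := by rw [hu, hz w hw, mul_zero, add_zero]
  have hsoc : ∀ z : F, (∀ a ∈ m, a * z = 0) →
      algebraMap F Fm z ∈ LocCoh.torsionBy (IsLocalRing.maximalIdeal Fm) Fm := by
    intro z hz
    refine (Submodule.mem_torsionBySet_iff _ _).2 fun ⟨a, ha⟩ => ?_
    show a • _ = _
    obtain ⟨a, rfl⟩ := IsArtinianRing.localization_surjective m.primeCompl Fm a
    rw [smul_eq_mul, ← map_mul, hz a ((IsLocalization.AtPrime.to_map_mem_maximal_iff Fm m a).1 ha),
      map_zero]
  have hy : ∀ a ∈ m, a * (r * x) = 0 := fun a ha => (hmem a).1 ha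
  have hspan := IsSimpleModule.toSpanSingleton_surjective Fm
    (show (⟨_, hsoc _ hy⟩ : LocCoh.torsionBy (IsLocalRing.maximalIdeal Fm) Fm) ≠ 0 from
      fun h => hy0 (hkey _ hy (congrArg Subtype.val h))) ⟨_, hsoc (s j) (hs j)⟩
  obtain ⟨c, hc⟩ := hspan
  obtain ⟨c, rfl⟩ := IsArtinianRing.localization_surjective m.primeCompl Fm c
  have hsj : s j = c * (r * x) := by
    have h := congrArg Subtype.val hc
    refine (sub_eq_zero.1 (hkey _ (fun a ha => ?_) ?_))
    · rw [mul_sub, hs j a ha, mul_left_comm, hy a ha, mul_zero, sub_zero]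
    · rw [map_sub, map_mul, sub_eq_zero]
      exact h.symm
  exact one_ne_zero (α := κ) (by rw [← hψ j, hsj, ← mul_assoc, hx])

end Field

/-- All fibres are Gorenstein iff `ω` is invertible. -/
theorem gor_fibres_iff [IsNoetherianRing A] [Module.Finite A B] [Module.Free A B] :
    (∀ (p : Ideal A) [p.IsPrime], LocCoh.IsGorensteinRing (p.Fiber B)) ↔
      Module.Invertible B (Omega A B) := by
  classical
  let b := Module.Free.chooseBasis A B
  have hbase : ∀ (p : Ideal A) [p.IsPrime] (φ : Omega A B),
      ∃ ψ : p.Fiber B →ₗ[p.ResidueField] p.ResidueField,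
        (∀ i, ψ (Algebra.TensorProduct.basis p.ResidueField b i) =
          algebraMap A p.ResidueField (φ.toLinearMap (b i))) ∧
        (gram (Algebra.TensorProduct.basis p.ResidueField b) ⟨ψ⟩).det =
          algebraMap A p.ResidueField (gram b φ).det := by
    intro p _ φ
    let ψ : p.Fiber B →ₗ[p.ResidueField] p.ResidueField :=
      (AlgebraTensorModule.rid A p.ResidueField p.ResidueField).toLinearMap.comp
        (φ.toLinearMap.baseChange p.ResidueField)
    have hψ : ∀ z : B, ψ (1 ⊗ₜ[A] z) = algebraMap A p.ResidueField (φ.toLinearMap z) := fun z => by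
      simp [ψ, Algebra.algebraMap_eq_smul_one]
    refine ⟨ψ, fun i => by rw [Algebra.TensorProduct.basis_apply, hψ], ?_⟩
    rw [RingHom.map_det]
    congr 1
    refine Matrix.ext fun i j => ?_
    simp [gram, Algebra.TensorProduct.basis_apply, hψ]
  constructor
  · intro h
    refine invertible_of_span_det b ?_
    by_contra hne
    obtain ⟨p, hp, hle⟩ := Ideal.exists_le_maximal _ hne
    have := h p
    obtain ⟨ψ, hψ⟩ := exists_nondegenerate (κ := p.ResidueField) (F := p.Fiber B)
    let bF := Algebra.TensorProduct.basis p.ResidueField b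
    have hdet := (det_ne_zero_iff bF ψ).2 hψ
    choose a ha using fun i => Ideal.algebraMap_residueField_surjective p (ψ (bF i))
    obtain ⟨ψ', h1, h2⟩ := hbase p ⟨b.constr A a⟩
    have : ψ' = ψ := bF.ext fun i => by rw [h1, ← ha, Module.Basis.constr_basis]
    subst this
    refine hdet (h2.trans ?_)
    rw [Ideal.algebraMap_residueField_eq_zero]
    exact hle (Ideal.subset_span ⟨_, rfl⟩)
  · intro h p _
    obtain ⟨φ, hφ⟩ := exists_det_notMem b p
    obtain ⟨ψ, -, h2⟩ := hbase p φ
    refine gor_of_nondegenerate ψ ((det_ne_zero_iff (Algebra.TensorProduct.basis p.ResidueField b) ψ).1 ?_)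
    rw [h2]
    exact fun h => hφ (Ideal.algebraMap_residueField_eq_zero.1 h)

end Groth.Agent.DiscDual32
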