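import Groth.Agent.DiscDual32.KModel
import Groth.Agent.Koszul19.Seq

/-!
# The concrete Koszul model agrees with the mapping-cone model
-/

set_option autoImplicit false

noncomputable section

namespace Groth.Agent.DiscDual32.KModel

open CategoryTheory Koszul19

universe u

variable {A : Type u} [CommRing A]

theorem exists_theta : ∀ (n : ℕ) (f : Fin n → A),
    ∃ θ : ∀ p : ℕ, ((Koszul.koszul A (List.ofFn f)).X (-(p : ℤ)) : Type u) →ₗ[A] T A n,
      (∀ p, Function.Injective (θ p)) ∧ (∀ p, LinearMap.range (θ p) = Deg A n p) ∧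
      ∀ (p : ℕ) z, d f (θ (p + 1) z) =
        θ p (dd (Koszul.koszul A (List.ofFn f)) (-((p + 1 : ℕ) : ℤ)) (-(p : ℤ)) z) := by
  intro n
  induction n with
  | zero =>
    intro f
    rw [List.ofFn_zero]
    refine ⟨fun p => match p with
      | 0 => (LinearMap.id (R := A)).smulRight (one A 0) ∘ₗ nilZero.toLinearMap
      | _ + 1 => 0, ?_, ?_, ?_⟩
    · rintro (_ | p)
      · intro a b h
        have := congrFun h (fun _ => false)
        simp [one] at this
        exact this
      · have := subsingleton_nil (A := A) (q := -((p + 1 : ℕ) : ℤ)) (by omega)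
        exact Function.injective_of_subsingleton _
    · rintro (_ | p)
      · refine le_antisymm ?_ fun x hx => ?_
        · rintro _ ⟨z, rfl⟩; exact Submodule.smul_mem _ _ (one_mem 0)
        · exact ⟨nilZero.symm (x fun _ => false), by simp [← deg_zero_eq hx]⟩
      · refine le_antisymm ?_ fun x hx => ?_
        · rintro _ ⟨z, rfl⟩; exact Submodule.zero_mem _
        · have : x = 0 := funext fun s => hx s (by simp [wt])
          exact ⟨0, by simp [this]⟩
    · intro p z
      have := subsingleton_nil (A := A) (q := -((p + 1 : ℕ) : ℤ)) (by omega)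
      rw [Subsingleton.elim z 0]
      simp
  | succ n ih =>
    intro f
    obtain ⟨θ, hinj, hrange, hd⟩ := ih (Fin.tail f)
    rw [List.ofFn_succ, show (List.ofFn fun i => f i.succ) = List.ofFn (Fin.tail f) from rfl]
    let c := consData (f 0) (List.ofFn (Fin.tail f))
    have h0 : -((0 : ℕ) : ℤ) + 1 = 1 := by simp
    have hs : ∀ p : ℕ, -((p + 1 : ℕ) : ℤ) + 1 = -(p : ℤ) := fun p => by push_cast; ring
    refine ⟨fun p => match p with
      | 0 => join n ∘ₗ LinearMap.prod
          (θ 0 ∘ₗ LinearMap.snd A _ _ ∘ₗ (c.e (-((0 : ℕ) : ℤ)) 1 h0).toLinearMap) 0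
      | p + 1 => join n ∘ₗ LinearMap.prod
          (θ (p + 1) ∘ₗ LinearMap.snd A _ _ ∘ₗ (c.e _ _ (hs p)).toLinearMap)
          (θ p ∘ₗ LinearMap.fst A _ _ ∘ₗ (c.e _ _ (hs p)).toLinearMap), ?_, ?_, ?_⟩
    · rintro (_ | p) a b h
      · have e0 := congrArg (part n false) h
        simp only [LinearMap.comp_apply, LinearMap.prod_apply, Function.prod, part_false_join,
          LinearEquiv.coe_coe, LinearMap.snd_apply] at e0
        have := subsingleton_X (List.ofFn (Fin.tail f)) 1 (Or.inl one_pos)
        exact (c.e _ _ h0).injective (Prod.ext (Subsingleton.elim _ _) (hinj 0 e0))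
      · have e0 := congrArg (part n false) h
        have e1 := congrArg (part n true) h
        simp only [LinearMap.comp_apply, LinearMap.prod_apply, Function.prod, part_false_join,
          part_true_join, LinearEquiv.coe_coe, LinearMap.snd_apply, LinearMap.fst_apply] at e0 e1
        exact (c.e _ _ (hs p)).injective (Prod.ext (hinj p e1) (hinj (p + 1) e0))
    · rintro (_ | p)
      · refine le_antisymm ?_ fun x hx => ?_
        · rintro _ ⟨z, rfl⟩
          refine mem_deg_succ.2 ⟨?_, fun s _ => ?_⟩
          · simp only [LinearMap.comp_apply, LinearMap.prod_apply, Function.prod, part_false_join]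
            rw [← hrange 0]; exact ⟨_, rfl⟩
          · simp
        · obtain ⟨y, hy⟩ : part n false x ∈ LinearMap.range (θ 0) := by
            rw [hrange]; exact (mem_deg_succ.1 hx).1
          refine ⟨(c.e _ _ h0).symm (0, y), ext_part ?_ ?_⟩
          · simp [hy]
          · simp [part_true_eq_zero hx]
      · refine le_antisymm ?_ fun x hx => ?_
        · rintro _ ⟨z, rfl⟩
          refine mem_deg_of_parts ?_ ?_ <;>
            simp only [LinearMap.comp_apply, LinearMap.prod_apply, Function.prod, part_false_join,
              part_true_join]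
          · rw [← hrange (p + 1)]; exact ⟨_, rfl⟩
          · rw [← hrange p]; exact ⟨_, rfl⟩
        · obtain ⟨y, hy⟩ : part n false x ∈ LinearMap.range (θ (p + 1)) := by
            rw [hrange]; exact (mem_deg_succ.1 hx).1
          obtain ⟨w, hw⟩ : part n true x ∈ LinearMap.range (θ p) := by
            rw [hrange]; exact part_true_mem hx
          exact ⟨(c.e _ _ (hs p)).symm (w, y), ext_part (by simp [hy]) (by simp [hw])⟩
    · rintro (_ | p) z
      · refine ext_part ?_ ?_
        · simp only [part_false_d, LinearMap.comp_apply, LinearMap.prod_apply, Function.prod,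
            part_false_join, part_true_join, LinearEquiv.coe_coe, LinearMap.snd_apply,
            LinearMap.fst_apply, hd]
          rw [c.e_d_snd _ _ _ (hs 0) h0]
          simp only [map_add, map_smul]
          first | rfl | abel
        · simp only [part_true_d, LinearMap.comp_apply, LinearMap.prod_apply, Function.prod,
            part_true_join, LinearEquiv.coe_coe, LinearMap.fst_apply, LinearMap.zero_apply]
          rw [(d_mem (Fin.tail f) (p := 0) (by rw [← hrange 0]; exact ⟨_, rfl⟩)).1 rfl, neg_zero]
      · refine ext_part ?_ ?_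
        · simp only [part_false_d, LinearMap.comp_apply, LinearMap.prod_apply, Function.prod,
            part_false_join, part_true_join, LinearEquiv.coe_coe, LinearMap.snd_apply,
            LinearMap.fst_apply, hd]
          rw [c.e_d_snd _ _ _ (hs (p + 1)) (hs p)]
          simp only [map_add, map_smul]
          first | rfl | abel
        · simp only [part_true_d, LinearMap.comp_apply, LinearMap.prod_apply, Function.prod,
            part_true_join, LinearEquiv.coe_coe, LinearMap.fst_apply, hd]
          rw [c.e_d_fst _ _ _ (hs (p + 1)) (hs p), map_neg]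

theorem exact_of_kR {n : ℕ} {f : Fin n → A} (h : KR (List.ofFn f)) : Exact f := by
  obtain ⟨θ, hinj, hrange, hd⟩ := exists_theta n f
  intro p hp x hx hdx
  obtain ⟨q, rfl⟩ : ∃ q, p = q + 1 := ⟨p - 1, by omega⟩
  obtain ⟨z, rfl⟩ : x ∈ LinearMap.range (θ (q + 1)) := by rw [hrange]; exact hx
  rw [hd] at hdx
  obtain ⟨w, hw⟩ := h (-((q + 1 : ℕ) : ℤ)) (by omega) (-((q + 1 + 1 : ℕ) : ℤ)) (-(q : ℤ))
    (by push_cast; ring) (by push_cast; ring) z (hinj q (by rw [hdx, map_zero]))
  exact ⟨θ _ w, by rw [← hrange]; exact ⟨w, rfl⟩, by rw [hd, hw]⟩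

theorem exact_of_isKoszulRegularSeq {n : ℕ} {f : Fin n → A}
    (h : ∀ i : ℤ, i ≠ 0 → Limits.IsZero ((Koszul.koszul A (List.ofFn f)).homology i)) : Exact f :=
  exact_of_kR ((kR_iff _).2 h)

end Groth.Agent.DiscDual32.KModel
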