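import Groth.Prelude.Def_Disc
import Groth.Agent.DiscDual32.KBridge
import Groth.Agent.Koszul19.BaseChange
import Mathlib.LinearAlgebra.TensorProduct.RightExactness
import Mathlib.RingTheory.TensorProduct.Maps

/-!
# The annihilator of the diagonal ideal
-/

set_option autoImplicit false

noncomputable section

namespace Groth.Agent.DiscDual32

open TensorProduct Koszul19

universe u

variable {A P : Type u} [CommRing A] [CommRing P] [Algebra A P] {n : ℕ} (f : Fin n → P)

/-- The quotient by the sequence. -/
abbrev Quo : Type u := P ⧸ Ideal.span (Set.range f)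

/-- The map `P ⊗ B → B ⊗ B`. -/
abbrev proj : P ⊗[A] Quo f →ₐ[A] Quo f ⊗[A] Quo f :=
  Algebra.TensorProduct.map (Ideal.Quotient.mkₐ A _) (AlgHom.id A (Quo f))

/-- The map `P ⊗ B → B`. -/
abbrev evalDiag : P ⊗[A] Quo f →ₐ[A] Quo f :=
  Algebra.TensorProduct.productMap (Ideal.Quotient.mkₐ A _) (AlgHom.id A (Quo f))

theorem proj_surjective : Function.Surjective (proj (A := A) f) :=
  TensorProduct.map_surjective Ideal.Quotient.mk_surjective Function.surjective_id

theorem lmul'_proj (a : P ⊗[A] Quo f) :
    Algebra.TensorProduct.lmul' A (proj f a) = evalDiag (A := A) f a := by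
  induction a with
  | zero => simp
  | tmul x y => simp
  | add a b ha hb => simp only [map_add, ha, hb]

theorem ker_proj : RingHom.ker (proj (A := A) f) =
    Ideal.span (Set.range fun i => f i ⊗ₜ[A] (1 : Quo f)) := by
  rw [Algebra.TensorProduct.rTensor_ker _ (Ideal.Quotient.mkₐ_surjective A _),
    show RingHom.ker (Ideal.Quotient.mkₐ A (Ideal.span (Set.range f))) = Ideal.span (Set.range f)
      from Ideal.Quotient.mkₐ_ker A _, Ideal.map_span, ← Set.range_comp]
  rfl

theorem annihilator_eq_span_det (hf : KR (List.ofFn f)) [Module.Flat A (Quo f)]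
    (g : Fin n → P ⊗[A] Quo f) (hg : KR (List.ofFn g))
    (hgker : Ideal.span (Set.range g) = RingHom.ker (evalDiag (A := A) f))
    (c : Matrix (Fin n) (Fin n) (P ⊗[A] Quo f))
    (hc : ∀ i, f i ⊗ₜ[A] (1 : Quo f) = ∑ j, c i j * g j) :
    Submodule.annihilator (RingHom.ker (Algebra.TensorProduct.lmul' (S := Quo f) A)) =
      Ideal.span {proj f c.det} := by
  have hf' : KR (List.ofFn fun i => f i ⊗ₜ[A] (1 : Quo f)) := by
    have := hf.map (B := P ⊗[A] Quo f)
    rwa [List.map_ofFn] at this
  have hgd : ∀ j, c.det * g j ∈ RingHom.ker (proj (A := A) f) := fun j => by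
    rw [ker_proj]; exact KModel.det_mul_mem c hc j
  have hgI : ∀ j, proj f (g j) ∈ RingHom.ker (Algebra.TensorProduct.lmul' (S := Quo f) A) :=
    fun j => by
      have : g j ∈ RingHom.ker (evalDiag (A := A) f) := hgker ▸ Ideal.subset_span (Set.mem_range_self j)
      rw [RingHom.mem_ker, lmul'_proj]; exact this
  refine le_antisymm (fun ξ hξ => ?_) ?_
  · obtain ⟨a, rfl⟩ := proj_surjective f ξ
    have ha : ∀ j, a * g j ∈ Ideal.span (Set.range fun i => f i ⊗ₜ[A] (1 : Quo f)) := fun j => by
      rw [← ker_proj, RingHom.mem_ker, map_mul]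
      exact Submodule.mem_annihilator.1 hξ _ (hgI j)
    obtain ⟨u, hu, v, hv, rfl⟩ := Submodule.mem_sup.1 (KModel.mem_span_union c hc
      (KModel.exact_of_kR hf') (KModel.exact_of_kR hg) ha)
    rw [← ker_proj, RingHom.mem_ker] at hu
    obtain ⟨r, rfl⟩ := Ideal.mem_span_singleton.1 hv
    rw [map_add, hu, zero_add, map_mul]
    exact Ideal.mul_mem_right _ _ (Ideal.mem_span_singleton_self _)
  · rw [Ideal.span_singleton_le_iff_mem, Submodule.mem_annihilator]
    intro η hη
    obtain ⟨e, rfl⟩ := proj_surjective f η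
    have he : e ∈ Ideal.span (Set.range g) := by
      rw [hgker, RingHom.mem_ker, ← lmul'_proj]; exact hη
    have hle : Ideal.span (Set.range g) ≤ (RingHom.ker (proj (A := A) f)).colon {c.det} := by
      rw [Ideal.span_le]; rintro _ ⟨j, rfl⟩
      rw [SetLike.mem_coe, Submodule.mem_colon_singleton, smul_eq_mul, mul_comm]
      exact hgd j
    have := hle he
    rw [Submodule.mem_colon_singleton, RingHom.mem_ker, smul_eq_mul, mul_comm, map_mul] at this
    exact this

end Groth.Agent.DiscDual32
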