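import Groth.Prelude.Def_Disc
import Mathlib.RingTheory.Ideal.AssociatedPrime.Basic
import Mathlib.RingTheory.Ideal.Quotient.Operations
import Mathlib.RingTheory.Algebraic.Integral
import Mathlib.Algebra.Module.FinitePresentation
import Mathlib.LinearAlgebra.Dual.Lemmas
import Mathlib.RingTheory.Localization.FractionRing

/-!
# Associated primes of the dualising module of a finite map
-/

set_option autoImplicit false

noncomputable section

namespace Groth.Agent.DiscDual32

open Disc

universe u v

/-- A nonzero functional on a finite domain extension of a Noetherian domain. -/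
theorem exists_functional {R : Type u} {D : Type v} [CommRing R] [IsDomain R] [IsNoetherianRing R]
    [CommRing D] [IsDomain D] [Algebra R D] [Module.Finite R D]
    (hinj : Function.Injective (algebraMap R D)) :
    ∃ ψ : D →ₗ[R] R, ψ ≠ 0 := by
  set S := nonZeroDivisors R
  let V := LocalizedModule S D
  let g₀ : D →ₗ[R] V := LocalizedModule.mkLinearMap S D
  have h1 : g₀ 1 ≠ 0 := by
    rw [Ne, IsLocalizedModule.eq_zero_iff S g₀]
    rintro ⟨s, hs⟩
    rw [Submonoid.smul_def, Algebra.smul_def, mul_one] at hs
    exact nonZeroDivisors.coe_ne_zero s (hinj (hs.trans (map_zero _).symm))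
  obtain ⟨f, hf⟩ := Module.Projective.exists_dual_ne_zero (FractionRing R) h1
  have : Module.FinitePresentation R D := Module.finitePresentation_of_finite R D
  obtain ⟨h, s, hs⟩ := Module.FinitePresentation.exists_lift_of_isLocalizedModule S
    (Algebra.linearMap R (FractionRing R)) (f.restrictScalars R ∘ₗ g₀)
  refine ⟨h, fun h0 => hf ?_⟩
  have := LinearMap.congr_fun hs 1
  rw [h0] at this
  simp only [LinearMap.comp_apply, LinearMap.zero_apply, map_zero, LinearMap.smul_apply,
    LinearMap.restrictScalars_apply, Submonoid.smul_def, Algebra.smul_def] at this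
  exact (mul_eq_zero.1 this.symm).resolve_left (by
    simpa using nonZeroDivisors.coe_ne_zero s)

theorem associatedPrimes_omega {A : Type u} {B : Type v} [CommRing A] [CommRing B]
    [Algebra A B] [IsNoetherianRing A] [IsNoetherianRing B] [Module.Finite A B] :
    associatedPrimes B (Omega A B) =
      {q : Ideal B | q.IsPrime ∧ q.comap (algebraMap A B) ∈ associatedPrimes A A} := by
  ext q
  rw [AssociatedPrimes.mem_iff, isAssociatedPrime_iff, Set.mem_ofPred_eq]
  refine ⟨fun ⟨hq, l, hl⟩ => ⟨hq, ?_⟩, fun ⟨hq, hp⟩ => ⟨hq, ?_⟩⟩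
  · set p := q.comap (algebraMap A B)
    rw [AssociatedPrimes.mem_iff, isAssociatedPrime_iff]
    refine ⟨inferInstance, ?_⟩
    obtain ⟨s, hs⟩ := Module.Finite.fg_top (R := A) (M := B)
    have hmem : ∀ a : A, a ∈ p ↔ ∀ x ∈ s, a * l.toLinearMap x = 0 := by
      intro a
      rw [Ideal.mem_comap, hl, Submodule.mem_colon_singleton, Submodule.mem_bot]
      constructor
      · intro h x _
        have := LinearMap.congr_fun (congrArg Omega.toLinearMap h) x
        simpa [← Algebra.smul_def] using this
      · intro h
        refine Omega.ext (LinearMap.ext_on (s := (s : Set B)) hs fun x hx => ?_)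
        simpa [← Algebra.smul_def] using h x hx
    have hinf : s.inf (fun x => (⊥ : Submodule A A).colon {l.toLinearMap x}) ≤ p := fun a ha =>
      (hmem a).2 fun x hx => by
        have := (Submodule.mem_finsetInf.1 ha) x hx
        rwa [Submodule.mem_colon_singleton, Submodule.mem_bot, smul_eq_mul] at this
    obtain ⟨x, hx, hxp⟩ := (Ideal.IsPrime.inf_le' inferInstance).1 hinf
    refine ⟨l.toLinearMap x, le_antisymm (fun a ha => ?_) hxp⟩
    rw [Submodule.mem_colon_singleton, Submodule.mem_bot, smul_eq_mul]
    exact (hmem a).1 ha x hx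
  · set p := q.comap (algebraMap A B) with hpdef
    rw [AssociatedPrimes.mem_iff, isAssociatedPrime_iff] at hp
    obtain ⟨hp', a, ha⟩ := hp
    have : IsNoetherianRing (A ⧸ p) :=
      isNoetherianRing_of_surjective A (A ⧸ p) (Ideal.Quotient.mk p) Ideal.Quotient.mk_surjective
    have : Module.Finite (A ⧸ p) (B ⧸ q) := Module.Finite.of_restrictScalars_finite A _ _
    obtain ⟨ψ, hψ⟩ := exists_functional (R := A ⧸ p) (D := B ⧸ q)
      Ideal.algebraMap_quotient_injective
    let j : (A ⧸ p) →ₗ[A] A := Submodule.liftQ p (LinearMap.toSpanSingleton A A a) (fun r hr => by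
      rw [LinearMap.mem_ker, LinearMap.toSpanSingleton_apply]
      rw [ha, Submodule.mem_colon_singleton, Submodule.mem_bot] at hr
      exact hr)
    have hj : Function.Injective j := by
      rw [← LinearMap.ker_eq_bot, Submodule.eq_bot_iff]
      intro r hr
      obtain ⟨r, rfl⟩ := Submodule.Quotient.mk_surjective p r
      rw [Submodule.Quotient.mk_eq_zero, ha, Submodule.mem_colon_singleton, Submodule.mem_bot]
      exact hr
    let l : Omega A B := ⟨j ∘ₗ ψ.restrictScalars A ∘ₗ (Ideal.Quotient.mkₐ A q).toLinearMap⟩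
    refine ⟨l, ?_⟩
    ext c
    rw [Submodule.mem_colon_singleton, Submodule.mem_bot]
    constructor
    · intro hc
      refine Omega.ext (LinearMap.ext fun x => ?_)
      show j (ψ (Ideal.Quotient.mk q (c * x))) = 0
      rw [Ideal.Quotient.eq_zero_iff_mem.2 (Ideal.mul_mem_right _ _ hc), map_zero, map_zero]
    · intro hc
      by_contra hcq
      obtain ⟨y, hy⟩ := DFunLike.ne_iff.1 hψ
      have hcD : Ideal.Quotient.mk q c ≠ 0 := fun h => hcq (Ideal.Quotient.eq_zero_iff_mem.1 h)
      have halg : IsAlgebraic (A ⧸ p) (Ideal.Quotient.mk q c) :=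
        (Algebra.IsIntegral.isIntegral _).isAlgebraic
      obtain ⟨r, hr, e, he⟩ := halg.exists_nonzero_dvd (mem_nonZeroDivisors_of_ne_zero hcD)
      obtain ⟨x, hx⟩ := Ideal.Quotient.mk_surjective (e * y)
      have h0 := LinearMap.congr_fun (congrArg Omega.toLinearMap hc) x
      have h1 : ψ (Ideal.Quotient.mk q c * (e * y)) = 0 := hj (by
        rw [map_zero, ← hx, ← map_mul]; exact h0)
      rw [← mul_assoc, ← he, ← Algebra.smul_def, map_smul, smul_eq_mul] at h1
      exact (mul_ne_zero hr hy) h1

end Groth.Agent.DiscDual32
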