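import Groth.Agent.DiscDual32.Basic
import Mathlib.RingTheory.Flat.Basic
import Mathlib.RingTheory.RingHom.Flat
import Mathlib.RingTheory.IsTensorProduct
import Mathlib.AlgebraicGeometry.Morphisms.Flat
import Mathlib.RingTheory.EssentialFiniteness

/-!
# Flat base change and open immersions for the Noether different
-/

set_option autoImplicit false

noncomputable section

namespace Groth.Agent.DiscDual32

open TensorProduct

universe u

/-- The annihilator of a finitely generated ideal commutes with flat maps. -/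
theorem annihilator_map {R R' : Type u} [CommRing R] [CommRing R'] (ψ : R →+* R') (hψ : ψ.Flat)
    (I : Ideal R) (hI : I.FG) :
    Submodule.annihilator (I.map ψ) = (Submodule.annihilator I).map ψ := by
  let : Algebra R R' := ψ.toAlgebra
  have : Module.Flat R R' := hψ
  obtain ⟨k, x, hx⟩ := Submodule.fg_iff_exists_fin_generating_family.1 hI
  have hIs : I = Ideal.span (Set.range x) := hx.symm
  refine le_antisymm (fun r hr => ?_) ?_
  · let g : R →ₗ[R] (Fin k → R) := LinearMap.pi fun i => LinearMap.mulRight R (x i)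
    have hex : Function.Exact (LinearMap.ker g).subtype g := fun y => by simp [LinearMap.mem_ker]
    have hex' := Module.Flat.lTensor_exact R' hex
    have h0 : (g.lTensor R') (r ⊗ₜ[R] 1) = 0 := by
      apply (TensorProduct.piScalarRight R R R' (Fin k)).injective
      rw [map_zero, LinearMap.lTensor_tmul, TensorProduct.piScalarRight_apply]
      funext i
      have := Submodule.mem_annihilator.1 hr (ψ (x i))
        (Ideal.mem_map_of_mem ψ (hIs ▸ Ideal.subset_span ⟨i, rfl⟩))
      simpa [g, Algebra.smul_def, mul_comm, smul_eq_mul, RingHom.algebraMap_toAlgebra] using this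
    obtain ⟨t, ht⟩ := (hex' _).1 h0
    have key : ∀ t, TensorProduct.rid R R' (((LinearMap.ker g).subtype.lTensor R') t) ∈
        (Submodule.annihilator I).map ψ := by
      intro t
      induction t with
      | zero => simp
      | tmul a y =>
        obtain ⟨y, hy⟩ := y
        have : y ∈ Submodule.annihilator I := by
          rw [hIs, Ideal.span, Submodule.mem_annihilator_span]
          rintro ⟨_, i, rfl⟩
          simpa [g] using congrFun (LinearMap.mem_ker.1 hy) i
        simp only [LinearMap.lTensor_tmul, Submodule.subtype_apply, TensorProduct.rid_tmul,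
          Algebra.smul_def]
        exact Ideal.mul_mem_right _ _ (Ideal.mem_map_of_mem ψ this)
      | add a b ha hb => rw [map_add, map_add]; exact add_mem ha hb
    have := key t
    rwa [ht, TensorProduct.rid_tmul, one_smul] at this
  · rw [Ideal.map_le_iff_le_comap]
    intro y hy
    rw [Ideal.mem_comap, hIs, Ideal.map_span, Ideal.span, Submodule.mem_annihilator_span]
    rintro ⟨_, _, ⟨i, rfl⟩, rfl⟩
    show ψ y * ψ (x i) = 0
    have : y * x i = 0 := Submodule.mem_annihilator.1 hy _ (hIs ▸ Ideal.subset_span ⟨i, rfl⟩)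
    rw [← map_mul, this, map_zero]

variable {A B A' B' : Type u} [CommRing A] [CommRing B] [CommRing A'] [CommRing B'] [Algebra A B]
  [Algebra A' B']

open Algebra.TensorProduct in
theorem jIdeal_map_eq [Algebra.EssFiniteType A B] (φ : B →+* B')
    (Ψ : B ⊗[A] B →+* B' ⊗[A'] B') (hΨ : ∀ x y, Ψ (x ⊗ₜ[A] y) = φ x ⊗ₜ[A'] φ y)
    (hflat : Ψ.Flat)
    (hker : RingHom.ker (lmul' (S := B') A') ≤
      (RingHom.ker (lmul' (S := B) A)).map Ψ) :
    jIdeal A' B' = (jIdeal A B).map Ψ ∧
      Disc.noetherDifferent A' B' = (Disc.noetherDifferent A B).map φ := by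
  have hcomm : (lmul' (S := B') A').toRingHom.comp Ψ = φ.comp (lmul' (S := B) A).toRingHom := by
    refine RingHom.ext fun t => ?_
    show lmul' A' (Ψ t) = φ (lmul' A t)
    induction t with
    | zero => simp
    | tmul x y => simp [hΨ]
    | add a b ha hb => simp only [map_add, ha, hb]
  have heq : RingHom.ker (lmul' (S := B') A') = (RingHom.ker (lmul' (S := B) A)).map Ψ := by
    refine le_antisymm hker (Ideal.map_le_iff_le_comap.2 fun t ht => ?_)
    have := RingHom.congr_fun hcomm t
    simp only [RingHom.comp_apply, AlgHom.toRingHom_eq_coe, RingHom.coe_coe] at this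
    rw [Ideal.mem_comap, RingHom.mem_ker, this, RingHom.mem_ker.1 ht, map_zero]
  have hJ : jIdeal A' B' = (jIdeal A B).map Ψ := by
    rw [jIdeal, heq]
    exact annihilator_map Ψ hflat _ (KaehlerDifferential.ideal_fg A B)
  refine ⟨hJ, ?_⟩
  show Ideal.map (lmul' (S := B') A').toRingHom (jIdeal A' B') =
    Ideal.map φ (Ideal.map (lmul' (S := B) A).toRingHom (jIdeal A B))
  rw [hJ, Ideal.map_map, Ideal.map_map, hcomm]

section OpenImmersion

variable [Algebra A B'] [Algebra B B'] [IsScalarTower A B B']

/-- The map `B ⊗ B → B' ⊗ B'`. -/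
abbrev sqMap (A B B' : Type u) [CommRing A] [CommRing B] [CommRing B'] [Algebra A B] [Algebra A B']
    [Algebra B B'] [IsScalarTower A B B'] : B ⊗[A] B →ₐ[A] B' ⊗[A] B' :=
  Algebra.TensorProduct.map (IsScalarTower.toAlgHom A B B') (IsScalarTower.toAlgHom A B B')

theorem ker_le_of_epi
    (hepi : ∀ (Q : Type u) [CommRing Q] (g h : B' →+* Q),
      g.comp (algebraMap B B') = h.comp (algebraMap B B') → g = h) :
    RingHom.ker (Algebra.TensorProduct.lmul' (S := B') A) ≤
      (RingHom.ker (Algebra.TensorProduct.lmul' (S := B) A)).map (sqMap A B B').toRingHom := by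
  set K := (RingHom.ker (Algebra.TensorProduct.lmul' (S := B) A)).map (sqMap A B B').toRingHom
  let g : B' →+* (B' ⊗[A] B') ⧸ K :=
    (Ideal.Quotient.mk K).comp Algebra.TensorProduct.includeLeftRingHom
  let h : B' →+* (B' ⊗[A] B') ⧸ K :=
    (Ideal.Quotient.mk K).comp Algebra.TensorProduct.includeRight.toRingHom
  have hgh : g = h := hepi _ g h (RingHom.ext fun x => (Ideal.Quotient.eq).2 (by
    have : (x ⊗ₜ[A] (1 : B) - (1 : B) ⊗ₜ[A] x) ∈
        RingHom.ker (Algebra.TensorProduct.lmul' (S := B) A) := by simp [RingHom.mem_ker]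
    simpa [K, map_sub, map_one] using Ideal.mem_map_of_mem (sqMap A B B').toRingHom this))
  rw [show RingHom.ker (Algebra.TensorProduct.lmul' (S := B') A) =
    KaehlerDifferential.ideal A B' from rfl, ← KaehlerDifferential.span_range_eq_ideal,
    Ideal.span_le]
  rintro _ ⟨x, rfl⟩
  exact (Ideal.Quotient.eq).1 (RingHom.congr_fun hgh x).symm

variable [Algebra.EssFiniteType A B]

theorem jIdeal_of_epi (hflat : (algebraMap B B').Flat)
    (hepi : ∀ (Q : Type u) [CommRing Q] (g h : B' →+* Q),
      g.comp (algebraMap B B') = h.comp (algebraMap B B') → g = h) :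
    jIdeal A B' = (jIdeal A B).map (sqMap A B B').toRingHom ∧
      Disc.noetherDifferent A B' = (Disc.noetherDifferent A B).map (algebraMap B B') :=
  jIdeal_map_eq (A := A) (A' := A) (algebraMap B B') (sqMap A B B').toRingHom
    (fun x y => by simp) (RingHom.Flat.tensorProductMap hflat hflat) (ker_le_of_epi hepi)

open CategoryTheory AlgebraicGeometry in
theorem noetherDifferent_openImmersion
    (h : IsOpenImmersion (Spec.map (CommRingCat.ofHom (algebraMap B B')))) :
    jIdeal A B' = (jIdeal A B).map (sqMap A B B').toRingHom ∧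
      Disc.noetherDifferent A B' = (Disc.noetherDifferent A B).map (algebraMap B B') := by
  refine jIdeal_of_epi ?_ fun Q _ g g' hg => ?_
  · have : Flat (Spec.map (CommRingCat.ofHom (algebraMap B B'))) := inferInstance
    exact (HasRingHomProperty.Spec_iff (P := @Flat)).1 this
  · have e : Spec.map (CommRingCat.ofHom g) ≫ Spec.map (CommRingCat.ofHom (algebraMap B B')) =
        Spec.map (CommRingCat.ofHom g') ≫ Spec.map (CommRingCat.ofHom (algebraMap B B')) := by
      rw [← Spec.map_comp, ← Spec.map_comp, ← CommRingCat.ofHom_comp, ← CommRingCat.ofHom_comp, hg]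
    exact congrArg CommRingCat.Hom.hom (Spec.map_injective ((cancel_mono _).1 e))

end OpenImmersion

section BaseChange

variable [Algebra A A'] [Algebra A B'] [Algebra B B'] [IsScalarTower A B B'] [IsScalarTower A A' B']
  [Algebra.IsPushout A B A' B'] [Algebra.EssFiniteType A B] [Module.Flat A A']

theorem noetherDifferent_baseChange :
    Disc.noetherDifferent A' B' = (Disc.noetherDifferent A B).map (algebraMap B B') := by
  classical
  have : Algebra.IsPushout A A' B B' := Algebra.IsPushout.symm ‹_›
  let e : A' ⊗[A] B ≃ₐ[A'] B' := Algebra.IsPushout.equiv A A' B B'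
  let j : B →ₐ[A] B' := IsScalarTower.toAlgHom A B B'
  let l : B' →ₐ[A] B' ⊗[A'] B' :=
    (Algebra.TensorProduct.includeLeft : B' →ₐ[A'] B' ⊗[A'] B').restrictScalars A
  let r : B' →ₐ[A] B' ⊗[A'] B' :=
    (Algebra.TensorProduct.includeRight : B' →ₐ[A'] B' ⊗[A'] B').restrictScalars A
  let Ψ : B ⊗[A] B →ₐ[A] B' ⊗[A'] B' := Algebra.TensorProduct.productMap (l.comp j) (r.comp j)
  have hΨ : ∀ x y, Ψ (x ⊗ₜ[A] y) = algebraMap B B' x ⊗ₜ[A'] algebraMap B B' y := fun x y => by
    simp [Ψ, l, r, j]
  let χ : A' ⊗[A] (B ⊗[A] B) →ₐ[A'] B' ⊗[A'] B' :=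
    Algebra.TensorProduct.lift (Algebra.ofId A' _) Ψ fun _ _ => Commute.all _ _
  let E : A' ⊗[A] (B ⊗[A] B) ≃ₗ[A'] B' ⊗[A'] B' :=
    (AlgebraTensorModule.distribBaseChange A A' B B).trans
      (TensorProduct.congr e.toLinearEquiv e.toLinearEquiv)
  have hχ : χ.toLinearMap = E.toLinearMap := by
    refine AlgebraTensorModule.ext fun a t => ?_
    induction t with
    | zero => simp
    | add s t hs ht => rw [tmul_add, map_add, map_add, hs, ht]
    | tmul x y =>
      simp [χ, E, hΨ, AlgebraTensorModule.distribBaseChange, e, Algebra.IsPushout.equiv_tmul,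
        ← Algebra.smul_def]
  have hbij : Function.Bijective χ := by
    show Function.Bijective χ.toLinearMap
    rw [hχ]; exact E.bijective
  have hincl : (Algebra.TensorProduct.includeRight : B ⊗[A] B →ₐ[A] A' ⊗[A] (B ⊗[A] B)).Flat := by
    show RingHom.Flat _
    let : Algebra (B ⊗[A] B) (A' ⊗[A] (B ⊗[A] B)) := Algebra.TensorProduct.rightAlgebra
    exact RingHom.flat_algebraMap_iff.2 (by
      have : Module.Flat (B ⊗[A] B) ((B ⊗[A] B) ⊗[A] A') := inferInstance
      exact Module.Flat.of_linearEquiv (Algebra.TensorProduct.commRight A (B ⊗[A] B) A').symm.toLinearEquiv)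
  have hflat : Ψ.toRingHom.Flat := by
    have : Ψ.toRingHom = χ.toRingHom.comp
        (Algebra.TensorProduct.includeRight : B ⊗[A] B →ₐ[A] A' ⊗[A] (B ⊗[A] B)).toRingHom := by
      refine RingHom.ext fun t => ?_
      show Ψ t = χ ((1 : A') ⊗ₜ[A] t)
      rw [Algebra.TensorProduct.lift_tmul, map_one, one_mul]
    rw [this]
    exact RingHom.Flat.comp hincl (RingHom.Flat.of_bijective hbij)
  refine (jIdeal_map_eq (A := A) (A' := A') (algebraMap B B') Ψ.toRingHom hΨ hflat ?_).2
  set K := (RingHom.ker (Algebra.TensorProduct.lmul' (S := B) A)).map Ψ.toRingHom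
  let g : B' →ₐ[A'] (B' ⊗[A'] B') ⧸ K :=
    (Ideal.Quotient.mkₐ A' K).comp Algebra.TensorProduct.includeLeft
  let h : B' →ₐ[A'] (B' ⊗[A'] B') ⧸ K :=
    (Ideal.Quotient.mkₐ A' K).comp Algebra.TensorProduct.includeRight
  have hb : ∀ x : B, g (algebraMap B B' x) = h (algebraMap B B' x) := fun x => by
    refine (Ideal.Quotient.eq (I := K)).2 ?_
    have : (x ⊗ₜ[A] (1 : B) - (1 : B) ⊗ₜ[A] x) ∈
        RingHom.ker (Algebra.TensorProduct.lmul' (S := B) A) := by simp [RingHom.mem_ker]
    have := Ideal.mem_map_of_mem Ψ.toRingHom this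
    simpa [K, hΨ, map_one] using this
  rw [show RingHom.ker (Algebra.TensorProduct.lmul' (S := B') A') =
    KaehlerDifferential.ideal A' B' from rfl, ← KaehlerDifferential.span_range_eq_ideal,
    Ideal.span_le]
  rintro _ ⟨x, rfl⟩
  obtain ⟨z, rfl⟩ := e.surjective x
  refine (Ideal.Quotient.eq (I := K)).1 (show h (e z) = g (e z) from ?_)
  induction z with
  | zero => simp
  | add s t hs ht => simp only [map_add, hs, ht]
  | tmul a b =>
    rw [Algebra.IsPushout.equiv_tmul, map_mul, map_mul, hb, AlgHom.commutes, AlgHom.commutes]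

end BaseChange

end Groth.Agent.DiscDual32
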