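import Groth.Prelude.Def_Disc
import Mathlib.RingTheory.Kaehler.Basic
import Mathlib.RingTheory.Trace.Basic
import Mathlib.RingTheory.Discriminant
import Mathlib.LinearAlgebra.FreeModule.Finite.Basic
import Mathlib.RingTheory.PicardGroup

/-!
# The Noether different and duality for finite free algebras
-/

set_option autoImplicit false

noncomputable section

namespace Groth.Agent.DiscDual32

open TensorProduct Disc

universe u v

variable {A : Type u} {B : Type v} [CommRing A] [CommRing B] [Algebra A B]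

variable (A B) in
/-- The annihilator of the kernel of multiplication. -/
abbrev jIdeal : Ideal (B ⊗[A] B) :=
  Submodule.annihilator (RingHom.ker (Algebra.TensorProduct.lmul' (S := B) A))

theorem mem_jIdeal_iff {ξ : B ⊗[A] B} :
    ξ ∈ jIdeal A B ↔ ∀ x : B, (x ⊗ₜ[A] (1 : B)) * ξ = ((1 : B) ⊗ₜ[A] x) * ξ := by
  have h : RingHom.ker (Algebra.TensorProduct.lmul' (S := B) A) =
      Submodule.span (B ⊗[A] B)
        (Set.range fun s : B => (1 : B) ⊗ₜ[A] s - s ⊗ₜ[A] (1 : B)) :=
    (KaehlerDifferential.span_range_eq_ideal A B).symm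
  rw [jIdeal, h, Submodule.mem_annihilator_span]
  simp only [Subtype.forall, Set.forall_mem_range, smul_eq_mul, mul_sub, sub_eq_zero]
  refine forall_congr' fun x => ?_
  rw [mul_comm ξ, mul_comm ξ]
  exact eq_comm

/-- The evaluation `x ⊗ y ↦ l x • y`. -/
def ev (l : Omega A B) : B ⊗[A] B →ₗ[A] B :=
  TensorProduct.lift ((LinearMap.lsmul A B).comp l.toLinearMap)

@[simp] theorem ev_tmul (l : Omega A B) (x y : B) : ev l (x ⊗ₜ[A] y) = l.toLinearMap x • y := rfl

theorem ev_add (l m : Omega A B) (ξ : B ⊗[A] B) : ev (l + m) ξ = ev l ξ + ev m ξ := by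
  induction ξ with
  | zero => simp
  | tmul x y => simp [add_smul]
  | add a b ha hb => simp only [map_add, ha, hb]; abel

theorem ev_smul (c : B) (l : Omega A B) (ξ : B ⊗[A] B) :
    ev (c • l) ξ = ev l ((c ⊗ₜ[A] (1 : B)) * ξ) := by
  induction ξ with
  | zero => simp
  | tmul x y => simp
  | add a b ha hb => simp only [mul_add, map_add, ha, hb]

theorem ev_one_tmul_mul (c : B) (l : Omega A B) (ξ : B ⊗[A] B) :
    ev l (((1 : B) ⊗ₜ[A] c) * ξ) = c * ev l ξ := by
  induction ξ with
  | zero => simp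
  | tmul x y => simp
  | add a b ha hb => simp only [mul_add, map_add, ha, hb]

theorem ev_smul_of_mem {ξ : B ⊗[A] B} (hξ : ξ ∈ jIdeal A B) (c : B) (l : Omega A B) :
    ev (c • l) ξ = c * ev l ξ := by
  rw [ev_smul, mem_jIdeal_iff.1 hξ, ev_one_tmul_mul]

/-- The `B`-linear map `ω → B` attached to an element of the annihilator. -/
def pairing (ξ : B ⊗[A] B) (hξ : ξ ∈ jIdeal A B) : Omega A B →ₗ[B] B where
  toFun l := ev l ξ
  map_add' l m := ev_add l m ξ
  map_smul' c l := by simp [ev_smul_of_mem hξ]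

theorem ev_comm (l m : Omega A B) (ξ : B ⊗[A] B) :
    l.toLinearMap (ev m (TensorProduct.comm A B B ξ)) = m.toLinearMap (ev l ξ) := by
  induction ξ with
  | zero => simp
  | tmul x y => simp [mul_comm]
  | add a b ha hb => simp only [map_add, ha, hb]

theorem comm_mem {ξ : B ⊗[A] B} (hξ : ξ ∈ jIdeal A B) :
    TensorProduct.comm A B B ξ ∈ jIdeal A B := by
  have hmul : ∀ (p q : B) (η : B ⊗[A] B), TensorProduct.comm A B B ((p ⊗ₜ[A] q) * η) =
      (q ⊗ₜ[A] p) * TensorProduct.comm A B B η := by
    intro p q η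
    induction η with
    | zero => simp
    | tmul x y => simp
    | add a b ha hb => simp only [mul_add, map_add, ha, hb]
  refine mem_jIdeal_iff.2 fun x => ?_
  rw [← hmul, ← hmul, (mem_jIdeal_iff.1 hξ) x]

theorem lmul'_comm (ξ : B ⊗[A] B) :
    Algebra.TensorProduct.lmul' A (TensorProduct.comm A B B ξ) =
      Algebra.TensorProduct.lmul' A ξ := by
  induction ξ with
  | zero => simp
  | tmul x y => simp [mul_comm]
  | add a b ha hb => simp only [map_add, ha, hb]

section Basis

variable {ι : Type*} [Fintype ι] (b : Module.Basis ι A B)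

/-- A coordinate functional as an element of `ω`. -/
abbrev crd (i : ι) : Omega A B := ⟨b.coord i⟩

theorem expansion (ξ : B ⊗[A] B) : ∑ i, b i ⊗ₜ[A] ev (crd b i) ξ = ξ := by
  induction ξ with
  | zero => simp
  | tmul x y =>
    simp only [ev_tmul, Module.Basis.coord_apply, ← smul_tmul]
    rw [← sum_tmul, b.sum_repr]
  | add a c ha hc => simp only [map_add, tmul_add, Finset.sum_add_distrib, ha, hc]

theorem omega_expansion (l : Omega A B) :
    l = ∑ i, algebraMap A B (l.toLinearMap (b i)) • crd b i := by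
  classical
  let f : Omega A B →+ (B →ₗ[A] A) := AddMonoidHom.mk' Omega.toLinearMap fun _ _ => rfl
  refine Omega.ext (b.ext fun j => ?_)
  show _ = f _ (b j)
  rw [map_sum, LinearMap.sum_apply]
  simp only [f, AddMonoidHom.mk'_apply, Omega.smul_toLinearMap_apply, ← Algebra.smul_def,
    Module.Basis.coord_apply, map_smul, Module.Basis.repr_self,
    Finsupp.single_apply, smul_eq_mul, mul_ite, mul_one, mul_zero]
  simp

include b in
theorem exists_pairing (Φ : Omega A B →ₗ[B] B) :
    ∃ ξ : B ⊗[A] B, ξ ∈ jIdeal A B ∧ ∀ l, Φ l = ev l ξ := by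
  have hev : ∀ l : Omega A B, ev l (∑ i, b i ⊗ₜ[A] Φ (crd b i)) = Φ l := by
    intro l
    conv_rhs => rw [omega_expansion b l, map_sum]
    simp only [map_sum, ev_tmul, map_smul, smul_eq_mul, Algebra.smul_def]
  refine ⟨∑ i, b i ⊗ₜ[A] Φ (crd b i), ?_, fun l => (hev l).symm⟩
  refine mem_jIdeal_iff.2 fun x => ?_
  rw [← expansion b ((x ⊗ₜ[A] (1 : B)) * _), ← expansion b (((1 : B) ⊗ₜ[A] x) * _)]
  refine Finset.sum_congr rfl fun i _ => ?_
  rw [← ev_smul, ev_one_tmul_mul, hev, hev, map_smul, smul_eq_mul]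

include b in
theorem eq_of_ev_eq {ξ η : B ⊗[A] B} (h : ∀ l, ev l ξ = ev l η) : ξ = η := by
  rw [← expansion b ξ, ← expansion b η]
  simp only [h]

variable [Module.Free A B] [Module.Finite A B]

theorem sum_smul_crd : ∑ i, b i • crd b i = Omega.trace A B := by
  classical
  let f : Omega A B →+ (B →ₗ[A] A) := AddMonoidHom.mk' Omega.toLinearMap fun _ _ => rfl
  refine Omega.ext (LinearMap.ext fun x => ?_)
  show f _ x = Algebra.trace A B x
  rw [map_sum, LinearMap.sum_apply, Algebra.trace_eq_matrix_trace b, Matrix.trace]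
  refine Finset.sum_congr rfl fun i _ => ?_
  simp [f, Algebra.leftMulMatrix_eq_repr_mul, mul_comm]

end Basis

variable [Module.Free A B] [Module.Finite A B]

theorem lmul'_eq_ev_trace {ξ : B ⊗[A] B} (hξ : ξ ∈ jIdeal A B) :
    Algebra.TensorProduct.lmul' A ξ = ev (Omega.trace A B) ξ := by
  have b := Module.Free.chooseBasis A B
  conv_lhs => rw [← expansion b ξ]
  rw [← sum_smul_crd b]
  show _ = pairing ξ hξ _
  rw [map_sum, map_sum]
  refine Finset.sum_congr rfl fun i _ => ?_
  rw [map_smul, Algebra.TensorProduct.lmul'_apply_tmul, smul_eq_mul]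
  rfl

theorem mem_noetherDifferent_iff {x : B} :
    x ∈ noetherDifferent A B ↔ ∃ φ : Omega A B →ₗ[B] B, φ (Omega.trace A B) = x := by
  rw [noetherDifferent, Ideal.mem_map_iff_of_surjective _ (fun y : B => ⟨y ⊗ₜ[A] (1 : B), by simp⟩)]
  constructor
  · rintro ⟨ξ, hξ, rfl⟩
    exact ⟨pairing ξ hξ, (lmul'_eq_ev_trace hξ).symm⟩
  · rintro ⟨φ, rfl⟩
    obtain ⟨ξ, hξ, h⟩ := exists_pairing (Module.Free.chooseBasis A B) φ
    exact ⟨ξ, hξ, by rw [lmul'_eq_ev_trace hξ, h]⟩

theorem mem_differentSet_iff {x : B} :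
    x ∈ differentSet A B ↔ ∀ l : Omega A B, ∃ c : B, x • l = c • Omega.trace A B := by
  constructor
  · intro hx l
    obtain ⟨c, hc⟩ := hx l.toLinearMap
    exact ⟨c, Omega.ext (LinearMap.ext fun z => hc z)⟩
  · intro hx φ
    obtain ⟨c, hc⟩ := hx ⟨φ⟩
    exact ⟨c, fun z => LinearMap.congr_fun (congrArg Omega.toLinearMap hc) z⟩

theorem noetherDifferent_subset_differentSet :
    (noetherDifferent A B : Set B) ⊆ differentSet A B := by
  intro x hx
  obtain ⟨ξ, hξ, rfl⟩ := (Ideal.mem_map_iff_of_surjective _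
    (fun y : B => ⟨y ⊗ₜ[A] (1 : B), by simp⟩)).1 hx
  refine mem_differentSet_iff.2 fun l => ⟨ev l ξ, Omega.ext (LinearMap.ext fun z => ?_)⟩
  set m : Omega A B := z • Omega.trace A B
  have h1 : l.toLinearMap (ev m (TensorProduct.comm A B B ξ)) = m.toLinearMap (ev l ξ) :=
    ev_comm l m ξ
  have h2 : ev m (TensorProduct.comm A B B ξ) = z * Algebra.TensorProduct.lmul' A ξ := by
    rw [ev_smul_of_mem (comm_mem hξ), ← lmul'_eq_ev_trace (comm_mem hξ), lmul'_comm]
  rw [h2] at h1
  simp only [Omega.smul_toLinearMap_apply, m] at h1 ⊢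
  rw [mul_comm, h1, mul_comm]

omit [Module.Finite A B] in
theorem eq_zero_of_forall_smul_eq_zero {z : B} (h : ∀ l : Omega A B, z • l = 0) : z = 0 := by
  have b := Module.Free.chooseBasis A B
  refine b.repr.injective (Finsupp.ext fun i => ?_)
  have := LinearMap.congr_fun (congrArg Omega.toLinearMap (h (crd b i))) 1
  simpa using this

theorem mul_self_mem_noetherDifferent {x : B} (hx : x ∈ differentSet A B) :
    x * x ∈ noetherDifferent A B := by
  have hx' := mem_differentSet_iff.1 hx
  choose c hc using hx'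
  have hkey : ∀ {d d' : B}, d • Omega.trace A B = d' • Omega.trace A B → d * x = d' * x := by
    intro d d' h
    refine sub_eq_zero.1 (eq_zero_of_forall_smul_eq_zero (A := A) fun l => ?_)
    rw [← sub_mul, mul_smul, hc l, smul_comm, sub_smul, h, sub_self, smul_zero]
  refine mem_noetherDifferent_iff.2 ⟨
    { toFun := fun l => c l * x
      map_add' := fun l m => by
        rw [← add_mul]; apply hkey; rw [add_smul, ← hc, ← hc, ← hc, smul_add]
      map_smul' := fun a l => by
        rw [RingHom.id_apply, smul_eq_mul, ← mul_assoc]; apply hkey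
        rw [mul_smul, ← hc, ← hc, smul_comm] }, ?_⟩
  exact hkey (hc _).symm

theorem differentSet_subset_iff {q : Ideal B} [q.IsPrime] :
    differentSet A B ⊆ q ↔ noetherDifferent A B ≤ q :=
  ⟨fun h _ hx => h (noetherDifferent_subset_differentSet hx),
    fun h _ hx => (Ideal.IsPrime.mem_or_mem inferInstance
      (h (mul_self_mem_noetherDifferent hx))).elim id id⟩

theorem differentSet_eq_noetherDifferent [Module.Invertible B (Omega A B)] :
    differentSet A B = (noetherDifferent A B : Set B) := by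
  refine Set.Subset.antisymm (fun x hx => ?_) noetherDifferent_subset_differentSet
  obtain ⟨t, ht⟩ := (Module.Invertible.bijective (R := B) (M := Omega A B)).2 1
  have key : ∀ t, x * contractLeft B (Omega A B) t ∈ noetherDifferent A B := by
    intro t
    induction t with
    | zero => simp
    | tmul φ l =>
      obtain ⟨c, hc⟩ := mem_differentSet_iff.1 hx l
      rw [contractLeft_apply, ← smul_eq_mul, ← map_smul, hc, map_smul, smul_eq_mul]
      exact Ideal.mul_mem_left _ _ (mem_noetherDifferent_iff.2 ⟨φ, rfl⟩)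
    | add a b ha hb => rw [map_add, mul_add]; exact add_mem ha hb
  have := key t
  rwa [ht, mul_one] at this

end Groth.Agent.DiscDual32
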