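import Groth.Agent.DiscDual32.Basic
import Mathlib.RingTheory.Norm.Basic
import Mathlib.RingTheory.QuasiFinite.Basic
import Mathlib.RingTheory.Unramified.Finite
import Mathlib.RingTheory.Smooth.Fiber
import Mathlib.RingTheory.Finiteness.ModuleFinitePresentation
import Mathlib.LinearAlgebra.Matrix.ToLinearEquiv
import Mathlib.RingTheory.Ideal.Quotient.Operations

/-!
# The different, norms and the discriminant
-/

set_option autoImplicit false

noncomputable section

namespace Groth.Agent.DiscDual32

open TensorProduct Disc Matrix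

universe u v

variable {A : Type u} {B : Type v} [CommRing A] [CommRing B] [Algebra A B]
variable {ι : Type*} [Fintype ι] [DecidableEq ι] (b : Module.Basis ι A B)

/-- The matrix of the bilinear form `(y, z) ↦ l (y z)`. -/
def gramDisc (l : Omega A B) : Matrix ι ι A := Matrix.of fun i j => l.toLinearMap (b i * b j)

theorem gram_smul (c : B) (l : Omega A B) :
    gramDisc b (c • l) = (Algebra.leftMulMatrix b c)ᵀ * gramDisc b l := by
  ext i j
  simp only [gramDisc, Matrix.of_apply, Omega.smul_toLinearMap_apply, Matrix.mul_apply,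
    Matrix.transpose_apply, Algebra.leftMulMatrix_eq_repr_mul]
  conv_lhs => rw [← mul_assoc, ← b.sum_repr (c * b i), Finset.sum_mul, map_sum]
  simp

theorem det_gram_smul (c : B) (l : Omega A B) :
    (gramDisc b (c • l)).det = Algebra.norm A c * (gramDisc b l).det := by
  rw [gram_smul, Matrix.det_mul, Matrix.det_transpose, Algebra.norm_eq_matrix_det b]

/-- Cramer: `det • ω` lies in `B • l`. -/
theorem exists_smul_eq (l m : Omega A B) :
    ∃ c : B, algebraMap A B (gramDisc b l).det • m = c • l := by
  set v : ι → A := (fun j => m.toLinearMap (b j)) ᵥ* (gramDisc b l).adjugate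
  refine ⟨∑ i, v i • b i, Omega.ext (b.ext fun j => ?_)⟩
  simp only [Omega.smul_toLinearMap_apply, Finset.sum_mul, map_sum, smul_mul_assoc, map_smul,
    ← Algebra.smul_def]
  show (gramDisc b l).det • m.toLinearMap (b j) = ∑ i, v i * gramDisc b l i j
  change _ = (v ᵥ* gramDisc b l) j
  rw [Matrix.vecMul_vecMul, Matrix.adjugate_mul, Matrix.vecMul_smul, Matrix.vecMul_one]
  rfl

variable [Module.Free A B] [Module.Finite A B]

theorem discr_eq_det_gram : Algebra.discr A b = (gramDisc b (Omega.trace A B)).det := rfl

omit [Module.Free A B] [Module.Finite A B] in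
theorem norm_mem_span_discr {x : B} (hx : x ∈ differentSet A B) :
    Algebra.norm A x ∈ Ideal.span {Algebra.discr A b} := by
  choose c hc using fun i => hx (b.coord i)
  have h : Algebra.leftMulMatrix b x =
      Matrix.of (fun i k => b.repr (c i) k) * Algebra.traceMatrix A b := by
    ext i j
    rw [Algebra.leftMulMatrix_eq_repr_mul, Matrix.mul_apply]
    show b.coord i (x * b j) = _
    rw [hc i]
    conv_lhs => rw [← b.sum_repr (c i), Finset.sum_mul, map_sum]
    simp [Algebra.traceForm_apply]
  rw [Algebra.norm_eq_matrix_det b, h, Matrix.det_mul, Ideal.mem_span_singleton]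
  exact dvd_mul_left _ _

theorem one_mem_noetherDifferent_iff :
    (1 : B) ∈ noetherDifferent A B ↔ IsUnit (Algebra.discr A b) := by
  constructor
  · intro h
    have := norm_mem_span_discr b (noetherDifferent_subset_differentSet h)
    rw [map_one, Ideal.mem_span_singleton] at this
    exact isUnit_of_dvd_one this
  · intro h
    have hdiff : (1 : B) ∈ differentSet A B := mem_differentSet_iff.2 fun m => by
      obtain ⟨c, hc⟩ := exists_smul_eq b (Omega.trace A B) m
      obtain ⟨u, hu⟩ := (h.map (algebraMap A B)).exists_left_inv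
      refine ⟨u * c, ?_⟩
      rw [mul_smul, ← hc, ← discr_eq_det_gram b, smul_smul, hu]
    simpa using mul_self_mem_noetherDifferent hdiff

omit [Module.Free A B] [Module.Finite A B] in
theorem one_mem_noetherDifferent_iff_formallyUnramified [Algebra.EssFiniteType A B] :
    (1 : B) ∈ noetherDifferent A B ↔ Algebra.FormallyUnramified A B := by
  rw [Algebra.FormallyUnramified.iff_exists_tensorProduct, noetherDifferent,
    Ideal.mem_map_iff_of_surjective _ (fun y : B => ⟨y ⊗ₜ[A] (1 : B), by simp⟩)]
  refine exists_congr fun t => and_congr_left' (mem_jIdeal_iff.trans ?_)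
  exact forall_congr' fun x => by rw [sub_mul, sub_eq_zero]; exact eq_comm

include b in
omit [Module.Free A B] [Module.Finite A B] in
theorem etale_iff_isUnit_discr : Algebra.Etale A B ↔ IsUnit (Algebra.discr A b) := by
  have : Module.Free A B := .of_basis b
  have : Module.Finite A B := .of_basis b
  rw [← one_mem_noetherDifferent_iff b, one_mem_noetherDifferent_iff_formallyUnramified]
  refine ⟨fun h => inferInstance, fun h => ?_⟩
  have : Module.FinitePresentation A B := Module.finitePresentation_of_projective A B
  exact Algebra.Etale.of_formallyUnramified_of_flat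

section Generator

variable [Module.Invertible B (Omega A B)]

omit [Fintype ι] [DecidableEq ι] [Module.Free A B] in
theorem exists_pair_notMem (m : Ideal A) [m.IsMaximal] :
    ∃ (l : Omega A B) (Φ : Module.Dual B (Omega A B)),
      IsUnit (Ideal.Quotient.mk (m.map (algebraMap A B)) (Φ l)) := by
  classical
  set c : Ideal B := m.map (algebraMap A B)
  let κ := {P : Ideal B // P.IsMaximal ∧ c ≤ P}
  have : Finite κ := by
    have hfin := (Algebra.QuasiFinite.finite_primesOver (S := B) m).to_subtype
    have hmem : ∀ P : κ, P.1 ∈ m.primesOver B := fun P => by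
      refine ⟨P.2.1.isPrime, ⟨Ideal.IsMaximal.eq_of_le inferInstance
        (Ideal.comap_ne_top _ P.2.1.ne_top) ?_⟩⟩
      exact Ideal.map_le_iff_le_comap.1 P.2.2
    exact Finite.of_injective (fun P : κ => (⟨P.1, hmem P⟩ : m.primesOver B))
      fun P P' e => Subtype.ext (by simpa using congrArg Subtype.val e)
  have : Fintype κ := Fintype.ofFinite κ
  have hex : ∀ P : κ, ∃ (ξ : Module.Dual B (Omega A B)) (l : Omega A B), ξ l ∉ P.1 := by
    intro P
    by_contra! hne
    obtain ⟨t, ht⟩ := (Module.Invertible.bijective (R := B) (M := Omega A B)).2 1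
    have hmem : ∀ t, contractLeft B (Omega A B) t ∈ P.1 := by
      intro t
      induction t with
      | zero => simp
      | tmul ξ l => rw [contractLeft_apply]; exact hne ξ l
      | add a b ha hb => rw [map_add]; exact add_mem ha hb
    exact P.2.1.ne_top (P.1.eq_top_iff_one.2 (ht ▸ hmem t))
  choose ξ l hl using hex
  have hcop : Pairwise (fun P P' : κ => IsCoprime P.1 P'.1) := fun P P' hne =>
    Ideal.isCoprime_iff_sup_eq.2 (P.2.1.coprime_of_ne P'.2.1 fun e => hne (Subtype.ext e))
  choose e he using fun P : κ =>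
    Ideal.exists_forall_sub_mem_ideal (I := fun P' : κ => P'.1) hcop
      (fun P' => if P' = P then 1 else 0)
  refine ⟨∑ P, e P • l P, ∑ P, e P • ξ P, ?_⟩
  have hnot : ∀ P : κ, (∑ P, e P • ξ P) (∑ P, e P • l P) ∉ P.1 := by
    intro P hmem
    have hmk : ∀ P' : κ, Ideal.Quotient.mk P.1 (e P') = if P = P' then 1 else 0 := fun P' => by
      rw [(Ideal.Quotient.mk_eq_mk_iff_sub_mem _ _).2 (he P' P)]
      split_ifs <;> simp
    have h0 := Ideal.Quotient.eq_zero_iff_mem.2 hmem
    simp only [LinearMap.sum_apply, LinearMap.smul_apply, map_sum, map_smul, smul_eq_mul,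
      map_mul, hmk, Finset.mul_sum, ite_mul, one_mul, zero_mul, mul_ite, mul_zero] at h0
    rw [Finset.sum_eq_single P (fun b _ hb => by simp [Ne.symm hb]) (by simp),
      Finset.sum_eq_single P (fun b _ hb => by simp [Ne.symm hb]) (by simp), if_pos rfl,
      if_pos rfl] at h0
    exact hl P (Ideal.Quotient.eq_zero_iff_mem.1 h0)
  by_contra hne
  obtain ⟨Q, hQ, hmemQ⟩ := exists_max_ideal_of_mem_nonunits hne
  exact hnot ⟨Q.comap (Ideal.Quotient.mk c),
    Ideal.comap_isMaximal_of_surjective _ Ideal.Quotient.mk_surjective,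
    fun x hx => by
      show Ideal.Quotient.mk c x ∈ Q
      rw [Ideal.Quotient.eq_zero_iff_mem.2 hx]; exact zero_mem _⟩ hmemQ

omit [Module.Free A B] in
theorem exists_det_gram_notMem (m : Ideal A) [m.IsMaximal] :
    ∃ l : Omega A B, (gramDisc b l).det ∉ m := by
  obtain ⟨l, Φ, hu⟩ := exists_pair_notMem (B := B) m
  refine ⟨l, fun hdet => ?_⟩
  set π := Ideal.Quotient.mk m
  have hdet' : ((gramDisc b l).map π).det = 0 := by
    rw [← RingHom.mapMatrix_apply, ← RingHom.map_det]
    exact Ideal.Quotient.eq_zero_iff_mem.2 hdet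
  obtain ⟨v, hv0, hv⟩ := Matrix.exists_mulVec_eq_zero_iff.2 hdet'
  choose w hw using fun i => Ideal.Quotient.mk_surjective (v i)
  refine hv0 (funext fun i => ?_)
  set z : B := ∑ j, w j • b j
  have hz : ∀ i, l.toLinearMap (z * b i) ∈ m := by
    intro i
    refine Ideal.Quotient.eq_zero_iff_mem.1 ?_
    have := congrFun hv i
    simp only [Matrix.mulVec, dotProduct, Matrix.map_apply, gramDisc, Matrix.of_apply,
      Pi.zero_apply] at this
    rw [show z * b i = ∑ j, w j • (b i * b j) by
      simp only [z, Finset.sum_mul, smul_mul_assoc, mul_comm (b i)]]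
    simp only [map_sum, map_smul, smul_eq_mul, map_mul]
    rw [← this]
    exact Finset.sum_congr rfl fun j _ => by rw [hw, mul_comm]
  have hzΦ : z * Φ l ∈ m.map (algebraMap A B) := by
    rw [← smul_eq_mul, ← map_smul, omega_expansion b (z • l), map_sum]
    refine Ideal.sum_mem _ fun j _ => ?_
    rw [map_smul, smul_eq_mul]
    exact Ideal.mul_mem_right _ _ (Ideal.mem_map_of_mem _ (hz j))
  have hzc : z ∈ m.map (algebraMap A B) := by
    rw [← Ideal.Quotient.eq_zero_iff_mem, ← hu.mul_left_eq_zero, ← map_mul]
    exact Ideal.Quotient.eq_zero_iff_mem.2 hzΦ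
  have hall : ∀ x ∈ m.map (algebraMap A B), ∀ i, b.repr x i ∈ m := by
    intro x hx
    rw [Ideal.map, ← Submodule.restrictScalars_mem A] at hx
    have hle : (Ideal.span (algebraMap A B '' m)).restrictScalars A ≤
        (m • ⊤ : Submodule A B) := by
      rw [Ideal.smul_top_eq_map]; exact le_refl _
    intro i
    refine Submodule.smul_induction_on (hle hx) (fun a ha y _ => ?_) (fun y y' hy hy' => ?_)
    · rw [map_smul, Finsupp.smul_apply, smul_eq_mul]; exact m.mul_mem_right _ ha
    · rw [map_add]; exact add_mem hy hy'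
  have hi := hall z hzc i
  simp only [z, map_sum, map_smul, Module.Basis.repr_self, Finsupp.smul_single, smul_eq_mul,
    mul_one, Finsupp.finsetSum_apply, Finsupp.single_apply, Finset.sum_ite_eq',
    Finset.mem_univ, if_true] at hi
  rw [← hw i, Pi.zero_apply, Ideal.Quotient.eq_zero_iff_mem]
  exact hi

theorem span_norm_differentSet :
    Ideal.span (Algebra.norm A '' differentSet A B) = Ideal.span {Algebra.discr A b} := by
  set I := Ideal.span (Algebra.norm A '' differentSet A B)
  refine le_antisymm (Ideal.span_le.2 ?_) ?_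
  · rintro _ ⟨x, hx, rfl⟩
    exact norm_mem_span_discr b hx
  rw [Ideal.span_singleton_le_iff_mem]
  set K : Ideal A := I.colon {Algebra.discr A b}
  suffices hK : K = ⊤ by
    have := Submodule.mem_colon_singleton.1 (show (1 : A) ∈ K by rw [hK]; trivial)
    simpa using this
  by_contra hK
  obtain ⟨m, hm, hle⟩ := Ideal.exists_le_maximal K hK
  obtain ⟨l, hd⟩ := exists_det_gram_notMem b m
  set d := (gramDisc b l).det with hd'
  obtain ⟨c', hc'⟩ := exists_smul_eq b l (Omega.trace A B)
  set n := Fintype.card ι
  have hx : algebraMap A B d * c' ∈ differentSet A B := by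
    refine mem_differentSet_iff.2 fun k => ?_
    obtain ⟨c, hc⟩ := exists_smul_eq b l k
    refine ⟨algebraMap A B d * c, ?_⟩
    rw [mul_comm, mul_smul, hc, mul_comm (algebraMap A B d), mul_smul, hc',
      smul_comm]
  have hrel : d ^ n * Algebra.discr A b = Algebra.norm A c' * d := by
    have := congrArg (fun k => (gramDisc b k).det) hc'
    simp only [det_gram_smul, ← discr_eq_det_gram b, ← hd'] at this
    rwa [Algebra.norm_algebraMap_of_basis b] at this
  have : d ^ (2 * n) ∈ K := Submodule.mem_colon_singleton.2 (by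
    rw [smul_eq_mul, show d ^ (2 * n) * Algebra.discr A b =
        d * Algebra.norm A (algebraMap A B d * c') by
      rw [map_mul, Algebra.norm_algebraMap_of_basis b, two_mul, pow_add, mul_assoc, hrel]
      ring]
    exact Ideal.mul_mem_left _ _ (Ideal.subset_span ⟨_, hx, rfl⟩))
  exact hd (hm.isPrime.mem_of_pow_mem _ (hle this))

end Generator

end Groth.Agent.DiscDual32
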