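import Groth.Agent.Fit14.Props
import Groth.Prelude.Def_Fitting
import Mathlib.RingTheory.Kaehler.Basic
import Mathlib.Algebra.MvPolynomial.PDeriv
import Mathlib.LinearAlgebra.Matrix.Determinant.Basic

/-!
# The Kähler different of a presentation with as many equations as variables
-/

set_option autoImplicit false

noncomputable section

namespace Groth.Agent.DiscDual32

open MvPolynomial

universe u

variable {A : Type u} [CommRing A] {n : ℕ} (f : Fin n → MvPolynomial (Fin n) A)

local notation "𝔅" => MvPolynomial (Fin n) A ⧸ Ideal.span (Set.range f)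

/-- The rows of the Jacobian matrix. -/
def jacRow (i : Fin n) : Fin n → 𝔅 := fun j => Ideal.Quotient.mk _ (pderiv j (f i))

theorem D_mk (p : MvPolynomial (Fin n) A) :
    KaehlerDifferential.D A 𝔅 (Ideal.Quotient.mk _ p) =
      ∑ j, (Ideal.Quotient.mk (Ideal.span (Set.range f)) (pderiv j p)) •
        KaehlerDifferential.D A 𝔅 (Ideal.Quotient.mk _ (X j)) := by
  induction p using MvPolynomial.induction_on with
  | C r =>
    refine ((KaehlerDifferential.D A 𝔅).map_algebraMap r).trans (Eq.symm ?_)
    refine Finset.sum_eq_zero fun j _ => ?_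
    rw [pderiv_C, map_zero]
    exact zero_smul 𝔅 (KaehlerDifferential.D A 𝔅 (Ideal.Quotient.mk _ (X j)))
  | add p q hp hq =>
    rw [map_add, map_add, hp, hq, ← Finset.sum_add_distrib]
    refine Finset.sum_congr rfl fun j _ => ?_
    rw [map_add, map_add]
    exact (add_smul (R := 𝔅) (M := Ω[𝔅⁄A]) _ _
      (KaehlerDifferential.D A 𝔅 (Ideal.Quotient.mk _ (X j)))).symm
  | mul_X p k hp =>
    rw [map_mul, Derivation.leibniz, hp, Finset.smul_sum]
    have : ∀ j, (Ideal.Quotient.mk (Ideal.span (Set.range f)) (pderiv j (p * X k))) •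
        KaehlerDifferential.D A 𝔅 (Ideal.Quotient.mk _ (X j)) =
        (if j = k then Ideal.Quotient.mk (Ideal.span (Set.range f)) p • KaehlerDifferential.D A 𝔅 (Ideal.Quotient.mk (Ideal.span (Set.range f)) (X j))
          else 0) + Ideal.Quotient.mk (Ideal.span (Set.range f)) (X k) •
          (Ideal.Quotient.mk (Ideal.span (Set.range f)) (pderiv j p) •
            KaehlerDifferential.D A 𝔅 (Ideal.Quotient.mk _ (X j))) := by
      intro j
      rw [pderiv_mul, map_add, map_mul, map_mul]
      refine (add_smul (R := 𝔅) (M := Ω[𝔅⁄A]) _ _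
        (KaehlerDifferential.D A 𝔅 (Ideal.Quotient.mk _ (X j)))).trans ?_
      rw [add_comm]
      congr 1
      · by_cases h : j = k
        · subst h; rw [pderiv_X_self, map_one, mul_one, if_pos rfl]
        · rw [pderiv_X_of_ne (Ne.symm h), map_zero, mul_zero, if_neg h]
          exact zero_smul 𝔅 (KaehlerDifferential.D A 𝔅 (Ideal.Quotient.mk _ (X j)))
      · rw [mul_comm]
        exact mul_smul (α := 𝔅) (β := Ω[𝔅⁄A]) _ _
          (KaehlerDifferential.D A 𝔅 (Ideal.Quotient.mk _ (X j)))
    rw [Finset.sum_congr rfl fun j _ => this j, Finset.sum_add_distrib, Finset.sum_ite_eq',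
      if_pos (Finset.mem_univ k)]

/-- The universal derivation into the cokernel of the Jacobian matrix. -/
def cokerDer : Derivation A 𝔅 ((Fin n → 𝔅) ⧸ Submodule.span 𝔅 (Set.range (jacRow f))) :=
  let N := Submodule.span 𝔅 (Set.range (jacRow f))
  let g : MvPolynomial (Fin n) A →ₗ[A] (Fin n → 𝔅) ⧸ N :=
    (N.mkQ.restrictScalars A).comp
      (LinearMap.pi fun j => (Ideal.Quotient.mkₐ A _).toLinearMap ∘ₗ (pderiv j).toLinearMap)
  have hleib : ∀ p q, g (p * q) =
      Ideal.Quotient.mk (Ideal.span (Set.range f)) p • g q +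
        Ideal.Quotient.mk (Ideal.span (Set.range f)) q • g p := by
    intro p q
    simp only [g, LinearMap.comp_apply, LinearMap.restrictScalars_apply, ← map_smul, ← map_add]
    congr 1
    funext j
    simp
  have hker : (Ideal.span (Set.range f)).restrictScalars A ≤ LinearMap.ker g := by
    intro p hp
    rw [Submodule.restrictScalars_mem] at hp
    show g p = 0
    induction hp using Submodule.span_induction with
    | mem p hp =>
      obtain ⟨i, rfl⟩ := hp
      exact (Submodule.Quotient.mk_eq_zero N).2 (Submodule.subset_span ⟨i, rfl⟩)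
    | zero => exact map_zero g
    | add p q _ _ hp hq => rw [map_add, hp, hq, add_zero]
    | smul r p hp' hp =>
      rw [smul_eq_mul, hleib, hp, smul_zero, zero_add, Ideal.Quotient.eq_zero_iff_mem.2 hp']
      exact zero_smul 𝔅 (g r)
  let g' : 𝔅 →ₗ[A] (Fin n → 𝔅) ⧸ N :=
    (Submodule.liftQ _ g hker).comp (Submodule.Quotient.restrictScalarsEquiv A _).symm.toLinearMap
  Derivation.mk' g' fun a b => by
    obtain ⟨p, rfl⟩ := Ideal.Quotient.mk_surjective a
    obtain ⟨q, rfl⟩ := Ideal.Quotient.mk_surjective b
    exact hleib p q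

theorem cokerDer_X (j : Fin n) : cokerDer f (Ideal.Quotient.mk _ (X j)) =
    Submodule.Quotient.mk (Pi.single j 1) := by
  show Submodule.Quotient.mk _ = _
  congr 1
  funext k
  show Ideal.Quotient.mk _ (pderiv k (X j)) = _
  by_cases h : k = j
  · subst h; simp
  · rw [pderiv_X_of_ne (Ne.symm h), Pi.single_eq_of_ne h, map_zero]

theorem rels_eq : Submodule.span 𝔅 (Set.range (jacRow f)) =
    Fit14.rels (fun j => KaehlerDifferential.D A 𝔅 (Ideal.Quotient.mk _ (X j))) := by
  refine le_antisymm (Submodule.span_le.2 ?_) fun a ha => ?_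
  · rintro _ ⟨i, rfl⟩
    refine Fit14.mem_rels.2 ?_
    have := D_mk f (f i)
    rw [show Ideal.Quotient.mk (Ideal.span (Set.range f)) (f i) = 0 from
      Ideal.Quotient.eq_zero_iff_mem.2 (Ideal.subset_span ⟨i, rfl⟩), map_zero] at this
    exact this.symm
  · have h := congrArg (cokerDer f).liftKaehlerDifferential (Fit14.mem_rels.1 ha)
    rw [map_sum, map_zero] at h
    simp only [map_smul, Derivation.liftKaehlerDifferential_comp_D, cokerDer_X,
      ← Submodule.mkQ_apply] at h
    have ha' : a = ∑ j, a j • (Pi.single j 1 : Fin n → 𝔅) := pi_eq_sum_univ' a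
    rw [ha']
    refine (Submodule.Quotient.mk_eq_zero _).1 ((map_sum (Submodule.mkQ _) _ _).trans ?_)
    simpa only [map_smul] using h

theorem minors_range {R : Type u} [CommRing R] (M : Matrix (Fin n) (Fin n) R) :
    Fit14.minors (Set.range M) n = Ideal.span {M.det} := by
  refine le_antisymm (Ideal.span_le.2 ?_) ?_
  · rintro d ⟨z, e, hz, rfl⟩
    choose κ hκ using hz
    rw [show (Matrix.of fun a b => z b (e a)) = M.transpose.submatrix e κ from
      Matrix.ext fun a b => by simp [← hκ b]]
    rw [SetLike.mem_coe, Ideal.mem_span_singleton]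
    by_cases he : Function.Injective e
    · by_cases hk : Function.Injective κ
      · obtain ⟨σ, rfl⟩ : ∃ σ : Equiv.Perm (Fin n), e = σ :=
          ⟨Equiv.ofBijective e (Finite.injective_iff_bijective.1 he), rfl⟩
        obtain ⟨τ, rfl⟩ : ∃ τ : Equiv.Perm (Fin n), κ = τ :=
          ⟨Equiv.ofBijective κ (Finite.injective_iff_bijective.1 hk), rfl⟩
        rw [show M.transpose.submatrix σ τ = (M.transpose.submatrix σ id).submatrix id τ from rfl,
          Matrix.det_permute', Matrix.det_permute, Matrix.det_transpose]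
        exact Dvd.dvd.mul_left (dvd_mul_left _ _) _
      · obtain ⟨i, j, hij, hne⟩ := Function.not_injective_iff.1 hk
        rw [Matrix.det_zero_of_column_eq (M := M.transpose.submatrix e κ) hne fun a => show M (κ i) (e a) = M (κ j) (e a) by rw [hij]]
        exact dvd_zero M.det
    · obtain ⟨i, j, hij, hne⟩ := Function.not_injective_iff.1 he
      rw [Matrix.det_zero_of_row_eq (M := M.transpose.submatrix e κ) hne
        (funext fun a => show M (κ a) (e i) = M (κ a) (e j) by rw [hij])]
      exact dvd_zero M.det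
  · rw [Ideal.span_singleton_le_iff_mem]
    refine Ideal.subset_span ⟨fun b => M b, id, fun b => ⟨b, rfl⟩, ?_⟩
    rw [← Matrix.det_transpose]
    rfl

theorem fitting_eq : Fitt.ideal 𝔅 (KaehlerDifferential A 𝔅) 0 =
    Ideal.span {Ideal.Quotient.mk (Ideal.span (Set.range f))
      (Matrix.det (Matrix.of fun i j => pderiv j (f i)))} := by
  have htop : Submodule.span 𝔅
      (Set.range fun j => KaehlerDifferential.D A 𝔅 (Ideal.Quotient.mk _ (X j))) = ⊤ := by
    rw [eq_top_iff, ← KaehlerDifferential.span_range_derivation, Submodule.span_le]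
    rintro _ ⟨b, rfl⟩
    obtain ⟨p, rfl⟩ := Ideal.Quotient.mk_surjective b
    rw [D_mk]
    exact sum_mem fun j _ => Submodule.smul_mem _ _ (Submodule.subset_span ⟨j, rfl⟩)
  rw [Fit14.ideal_eq_minors_of_span _ htop (rels_eq f) 0, Nat.sub_zero]
  rw [show Set.range (jacRow f) =
    Set.range ((Ideal.Quotient.mk (Ideal.span (Set.range f))).mapMatrix
      (Matrix.of fun i j => pderiv j (f i))) from rfl, minors_range, RingHom.map_det]

end Groth.Agent.DiscDual32
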