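import Mathlib.RingTheory.Flat.Localization
import Mathlib.RingTheory.Flat.Stability
import Mathlib.RingTheory.Ideal.AssociatedPrime.Basic
import Mathlib.RingTheory.Ideal.AssociatedPrime.Finiteness
import Mathlib.RingTheory.Ideal.HasGoingUp
import Mathlib.RingTheory.Localization.LocalizationLocalization
import Mathlib.RingTheory.Localization.BaseChange
import Mathlib.RingTheory.Localization.FractionRing

/-!
# Flatness at associated primes and over the total ring of fractions
-/

set_option autoImplicit false

noncomputable section

namespace Groth.Agent.DiscDual32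

open TensorProduct

universe u

variable {A B : Type u} [CommRing A] [CommRing B] [Algebra A B]

theorem exists_associated_of_notMem_nonZeroDivisors [IsNoetherianRing A] {s : A}
    (hs : s ∉ nonZeroDivisors A) : ∃ p : Ideal A, IsAssociatedPrime p A ∧ s ∈ p := by
  rw [mem_nonZeroDivisors_iff_right] at hs
  push Not at hs
  obtain ⟨x, hx, hx0⟩ := hs
  obtain ⟨p, hp, hle⟩ := exists_le_isAssociatedPrime_of_isNoetherianRing A x hx0
  refine ⟨p, hp, hle ?_⟩
  rw [Submodule.mem_colon_singleton, Submodule.mem_bot, smul_eq_mul, mul_comm]
  exact hx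

theorem notMem_of_isAssociatedPrime [IsNoetherianRing A] {p : Ideal A} (hp : IsAssociatedPrime p A)
    {s : A} (hs : s ∈ nonZeroDivisors A) : s ∉ p := by
  obtain ⟨-, x, hx⟩ := isAssociatedPrime_iff.1 hp
  intro hsp
  rw [hx, Submodule.mem_colon_singleton, Submodule.mem_bot, smul_eq_mul] at hsp
  have hx0 : x = 0 := (mem_nonZeroDivisors_iff_right.1 hs) x (by rwa [mul_comm])
  refine hp.1.ne_top ?_
  rw [hx, hx0, Ideal.eq_top_iff_one, Submodule.mem_colon_singleton, Submodule.mem_bot, smul_zero]

theorem map_nonZeroDivisors_le [IsNoetherianRing B]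
    (h : ∀ (q : Ideal B) [q.IsPrime], IsAssociatedPrime q B → Module.Flat A (Localization.AtPrime q)) :
    nonZeroDivisors A ≤ (nonZeroDivisors B).comap (algebraMap A B) := by
  intro s hs
  rw [Submonoid.mem_comap, mem_nonZeroDivisors_iff_right]
  intro x hx
  by_contra hx0
  obtain ⟨q, hq, hle⟩ := exists_le_isAssociatedPrime_of_isNoetherianRing B x hx0
  have := hq.1
  have := h q hq
  set L := Localization.AtPrime q
  have hinj : Function.Injective (fun y : L => s • y) := by
    have h0 : Function.Injective (LinearMap.lsmul A A s) := fun a b hab =>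
      sub_eq_zero.1 ((mem_nonZeroDivisors_iff_right.1 hs) (a - b) (by
        simp only [LinearMap.lsmul_apply, smul_eq_mul] at hab
        rw [sub_mul, mul_comm a, mul_comm b, hab, sub_self]))
    have h1 := Module.Flat.lTensor_preserves_injective_linearMap (M := L) _ h0
    intro y z hyz
    apply (TensorProduct.rid A L).symm.injective
    apply h1
    simp only [TensorProduct.rid_symm_apply, LinearMap.lTensor_tmul, LinearMap.lsmul_apply,
      smul_eq_mul, mul_one]
    have : ∀ w : L, w ⊗ₜ[A] s = (s • w) ⊗ₜ[A] (1 : A) := fun w => by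
      rw [TensorProduct.smul_tmul, smul_eq_mul, mul_one]
    simp only [this]
    exact congrArg (fun w => w ⊗ₜ[A] (1 : A)) hyz
  have h2 : algebraMap B L x = 0 := hinj (by
    show s • algebraMap B L x = s • (0 : L)
    rw [smul_zero, Algebra.smul_def, IsScalarTower.algebraMap_apply A B L, ← map_mul, mul_comm, hx,
      map_zero])
  obtain ⟨t, ht⟩ := (IsLocalization.map_eq_zero_iff q.primeCompl L x).1 h2
  exact t.2 (hle (by rw [Submodule.mem_colon_singleton, Submodule.mem_bot, smul_eq_mul, ht]))

/-- A prime of `B` disjoint from the nonzerodivisors of `A`. -/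
theorem algebraMapSubmonoid_le {q : Ideal B} [q.IsPrime]
    (hdis : ∀ s ∈ nonZeroDivisors A, algebraMap A B s ∉ q) :
    Algebra.algebraMapSubmonoid B (nonZeroDivisors A) ≤ q.primeCompl := by
  rintro _ ⟨s, hs, rfl⟩; exact hdis s hs

/-- `B ⊗ Q(A)` maps to the local ring. -/
theorem flat_atPrime_of_flat_fractionRing
    (h : Module.Flat (FractionRing A) (FractionRing A ⊗[A] B)) (q : Ideal B) [q.IsPrime]
    (hdis : ∀ s ∈ nonZeroDivisors A, algebraMap A B s ∉ q) :
    Module.Flat A (Localization.AtPrime q) := by
  let T := B ⊗[A] FractionRing A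
  have : Module.Flat A (FractionRing A) := IsLocalization.flat _ (nonZeroDivisors A)
  have : Module.Flat A (FractionRing A ⊗[A] B) :=
    Module.Flat.trans A (FractionRing A) _
  have hT : Module.Flat A T := Module.Flat.of_linearEquiv (TensorProduct.comm A B (FractionRing A))
  have : IsLocalization (Algebra.algebraMapSubmonoid B (nonZeroDivisors A)) T :=
    IsLocalization.tensor (FractionRing A) (nonZeroDivisors A)
  let g : T →ₐ[B] Localization.AtPrime q :=
    IsLocalization.liftAlgHom (M := Algebra.algebraMapSubmonoid B (nonZeroDivisors A))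
      (f := Algebra.ofId B (Localization.AtPrime q)) fun s =>
        IsLocalization.map_units _ (⟨s.1, algebraMapSubmonoid_le hdis s.2⟩ : q.primeCompl)
  let : Algebra T (Localization.AtPrime q) := g.toAlgebra
  have : IsScalarTower B T (Localization.AtPrime q) :=
    IsScalarTower.of_algebraMap_eq fun r => (g.commutes r).symm
  have : IsScalarTower A T (Localization.AtPrime q) :=
    IsScalarTower.of_algebraMap_eq (R := A) (S := T) (A := Localization.AtPrime q) fun r => by
    rw [IsScalarTower.algebraMap_apply A B T, ← IsScalarTower.algebraMap_apply B T (Localization.AtPrime q),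
      ← IsScalarTower.algebraMap_apply A B]
  have := IsLocalization.isLocalization_of_submonoid_le T (Localization.AtPrime q)
    (Algebra.algebraMapSubmonoid B (nonZeroDivisors A)) q.primeCompl (algebraMapSubmonoid_le hdis)
  have : Module.Flat T (Localization.AtPrime q) :=
    IsLocalization.flat _ (q.primeCompl.map (algebraMap B T))
  exact Module.Flat.trans A T _

theorem flat_fractionRing_of_hasGoingUp [IsNoetherianRing A] [Algebra.HasGoingUp A B]
    (h4 : ∀ (q : Ideal B) [q.IsPrime],
      IsAssociatedPrime (q.comap (algebraMap A B)) A → Module.Flat A (Localization.AtPrime q)) :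
    Module.Flat (FractionRing A) (FractionRing A ⊗[A] B) := by
  rw [Module.flat_iff_of_isLocalization (FractionRing A) (nonZeroDivisors A)]
  let T := B ⊗[A] FractionRing A
  suffices Module.Flat A T from
    Module.Flat.of_linearEquiv (TensorProduct.comm A (FractionRing A) B)
  have : IsLocalization (Algebra.algebraMapSubmonoid B (nonZeroDivisors A)) T :=
    IsLocalization.tensor (FractionRing A) (nonZeroDivisors A)
  refine Module.flat_of_isLocalized_maximal (R := A) T _ (fun P _ => Localization.AtPrime P)
    (fun P _ => Algebra.linearMap _ _) fun P hP => ?_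
  let q := P.comap (algebraMap B T)
  have hdis : ∀ s ∈ nonZeroDivisors A, algebraMap A B s ∉ q := fun s hs hsq =>
    hP.ne_top (Ideal.eq_top_of_isUnit_mem _ hsq
      (IsLocalization.map_units T (⟨algebraMap A B s, s, hs, rfl⟩ :
        Algebra.algebraMapSubmonoid B (nonZeroDivisors A))))
  let p₀ := q.under A
  obtain ⟨p, hp, hle⟩ : ∃ p : Ideal A, IsAssociatedPrime p A ∧ p₀ ≤ p := by
    have hfin := associatedPrimes.finite A A
    have hsub : (p₀ : Set A) ⊆ ⋃ p ∈ associatedPrimes A A, (p : Set A) := fun s hs => by
      obtain ⟨p, hp, hsp⟩ := exists_associated_of_notMem_nonZeroDivisors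
        (fun hs' => hdis s hs' hs)
      exact Set.mem_biUnion hp hsp
    obtain ⟨p, hp, hle⟩ := (Ideal.subset_union_prime_finite hfin (f := fun p => p) ⊥ ⊥
      fun p hp _ _ => hp.1).1 hsub
    exact ⟨p, hp, hle⟩
  obtain ⟨q', hqq', hq', hp'⟩ : ∃ q' : Ideal B, q ≤ q' ∧ q'.IsPrime ∧ q'.LiesOver p := by
    have := hp.1
    rcases hle.lt_or_eq with hlt | heq
    · exact Algebra.HasGoingUp.exists_ideal_ge_liesOver_of_lt q hlt
    · exact ⟨q, le_rfl, inferInstance, ⟨heq.symm⟩⟩
  have hflat : Module.Flat A (Localization.AtPrime q') := h4 q' (by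
    rw [show q'.comap (algebraMap A B) = p from hp'.1.symm]; exact hp)
  let g : Localization.AtPrime q' →ₐ[B] Localization.AtPrime q :=
    IsLocalization.liftAlgHom (M := q'.primeCompl) (f := Algebra.ofId B (Localization.AtPrime q))
      fun s => IsLocalization.map_units _ (⟨s.1, fun h => s.2 (hqq' h)⟩ : q.primeCompl)
  let : Algebra (Localization.AtPrime q') (Localization.AtPrime q) := g.toAlgebra
  have : IsScalarTower B (Localization.AtPrime q') (Localization.AtPrime q) :=
    IsScalarTower.of_algebraMap_eq fun r => (g.commutes r).symm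
  have : IsScalarTower A (Localization.AtPrime q') (Localization.AtPrime q) :=
    IsScalarTower.of_algebraMap_eq fun r => by
      rw [IsScalarTower.algebraMap_apply A B (Localization.AtPrime q'),
        ← IsScalarTower.algebraMap_apply B (Localization.AtPrime q'),
        ← IsScalarTower.algebraMap_apply A B]
  have := IsLocalization.isLocalization_of_submonoid_le (Localization.AtPrime q')
    (Localization.AtPrime q) q'.primeCompl q.primeCompl fun s hs h => hs (hqq' h)
  have : Module.Flat (Localization.AtPrime q') (Localization.AtPrime q) :=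
    IsLocalization.flat _ (q.primeCompl.map (algebraMap B (Localization.AtPrime q')))
  have hq : Module.Flat A (Localization.AtPrime q) :=
    Module.Flat.trans A (Localization.AtPrime q') _
  have hP' : IsLocalization.AtPrime (Localization.AtPrime P) q :=
    IsLocalization.isLocalization_isLocalization_atPrime_isLocalization
      (Algebra.algebraMapSubmonoid B (nonZeroDivisors A)) (Localization.AtPrime P) P
  exact Module.Flat.of_linearEquiv
    ((IsLocalization.algEquiv q.primeCompl (Localization.AtPrime P) (Localization.AtPrime q)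
      ).restrictScalars A).toLinearEquiv

end Groth.Agent.DiscDual32
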