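import Mathlib.LinearAlgebra.Determinant
import Mathlib.LinearAlgebra.ExteriorAlgebra.Basic
import Mathlib.LinearAlgebra.Pi
import Mathlib.LinearAlgebra.Finsupp.LinearCombination
import Mathlib.RingTheory.Ideal.Operations
import Mathlib.Algebra.BigOperators.Fin
import Mathlib.Data.Fin.Tuple.Basic

/-!
# A concrete model of the Koszul complex, self-duality and the lemma of Tate and Wiebe
-/

set_option autoImplicit false

noncomputable section

namespace Groth.Agent.DiscDual32.KModel

open Finset

universe u

variable (A : Type u) [CommRing A]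

/-- The total space of the Koszul complex on `n` elements. -/
abbrev T (n : ℕ) : Type u := (Fin n → Bool) → A

/-- Number of `true` entries. -/
def wt : {n : ℕ} → (Fin n → Bool) → ℕ
  | 0, _ => 0
  | _ + 1, s => (if s 0 then 1 else 0) + wt (Fin.tail s)

variable {A}

/-- The two components along the first coordinate. -/
def part (n : ℕ) (b : Bool) : T A (n + 1) →ₗ[A] T A n :=
  LinearMap.funLeft A A fun s : Fin n → Bool => (Fin.cons b s : Fin (n + 1) → Bool)

theorem part_apply {n : ℕ} (b : Bool) (x : T A (n + 1)) (s : Fin n → Bool) :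
    part n b x s = x (Fin.cons b s) := rfl

/-- Glue two components. -/
def join (n : ℕ) : (T A n × T A n) →ₗ[A] T A (n + 1) where
  toFun p s := if s 0 then p.2 (Fin.tail s) else p.1 (Fin.tail s)
  map_add' p q := by ext s; by_cases h : s 0 <;> simp [h]
  map_smul' a p := by ext s; by_cases h : s 0 <;> simp [h]

theorem join_cons {n : ℕ} (p : T A n × T A n) (b : Bool) (s : Fin n → Bool) :
    join n p (Fin.cons b s) = if b then p.2 s else p.1 s := by simp [join]

@[simp] theorem part_false_join {n : ℕ} (p : T A n × T A n) : part n false (join n p) = p.1 := by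
  ext s; simp [part_apply, join_cons]

@[simp] theorem part_true_join {n : ℕ} (p : T A n × T A n) : part n true (join n p) = p.2 := by
  ext s; simp [part_apply, join_cons]

theorem ext_part {n : ℕ} {x y : T A (n + 1)} (h0 : part n false x = part n false y)
    (h1 : part n true x = part n true y) : x = y := by
  ext s
  have a := congrFun h0 (Fin.tail s)
  have b := congrFun h1 (Fin.tail s)
  simp only [part_apply] at a b
  rw [← Fin.cons_self_tail s]
  cases s 0
  · exact a
  · exact b

/-- The Koszul differential. -/
def d : {n : ℕ} → (Fin n → A) → (T A n →ₗ[A] T A n)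
  | 0, _ => 0
  | n + 1, g => (join n).comp
      (((d (Fin.tail g)).comp (part n false) + g 0 • part n true).prod
        (-((d (Fin.tail g)).comp (part n true))))

/-- The transposed differential. -/
def dual : {n : ℕ} → (Fin n → A) → (T A n →ₗ[A] T A n)
  | 0, _ => 0
  | n + 1, g => (join n).comp
      ((-((dual (Fin.tail g)).comp (part n false)) + g 0 • part n true).prod
        ((dual (Fin.tail g)).comp (part n true)))

/-- Exterior multiplication by a vector. -/
def L : {n : ℕ} → ((Fin n → A) →ₗ[A] (T A n →ₗ[A] T A n))
  | 0 => 0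
  | n + 1 =>
    { toFun := fun v => (join n).comp
        (((L (Fin.tail v)).comp (part n false)).prod
          (v 0 • part n false - (L (Fin.tail v)).comp (part n true)))
      map_add' := fun v w => by
        have : Fin.tail (v + w) = Fin.tail v + Fin.tail w := rfl
        refine LinearMap.ext fun x => ext_part ?_ ?_ <;>
          simp [this, add_smul] <;> abel
      map_smul' := fun a v => by
        have : Fin.tail (a • v) = a • Fin.tail v := rfl
        refine LinearMap.ext fun x => ext_part ?_ ?_ <;>
          simp [this, smul_sub, mul_smul] }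

section parts

variable {n : ℕ} (g v : Fin (n + 1) → A) (x : T A (n + 1))

@[simp] theorem part_false_d : part n false (d g x) =
    d (Fin.tail g) (part n false x) + g 0 • part n true x := by
  rw [show d g x = join n _ from rfl, part_false_join]; rfl

@[simp] theorem part_true_d : part n true (d g x) = -d (Fin.tail g) (part n true x) := by
  rw [show d g x = join n _ from rfl, part_true_join]; rfl

@[simp] theorem part_false_dual : part n false (dual g x) =
    -dual (Fin.tail g) (part n false x) + g 0 • part n true x := by
  rw [show dual g x = join n _ from rfl, part_false_join]; rfl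

@[simp] theorem part_true_dual : part n true (dual g x) = dual (Fin.tail g) (part n true x) := by
  rw [show dual g x = join n _ from rfl, part_true_join]; rfl

@[simp] theorem part_false_L : part n false (L v x) = L (Fin.tail v) (part n false x) := by
  rw [show L v x = join n _ from rfl, part_false_join]; rfl

@[simp] theorem part_true_L : part n true (L v x) =
    v 0 • part n false x - L (Fin.tail v) (part n true x) := by
  rw [show L v x = join n _ from rfl, part_true_join]; rfl

end parts

theorem d_d : ∀ {n : ℕ} (g : Fin n → A) (x : T A n), d g (d g x) = 0 := by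
  intro n
  induction n with
  | zero => intro g x; rfl
  | succ n ih =>
    intro g x
    refine ext_part ?_ ?_ <;> simp [ih (Fin.tail g)]

theorem d_L : ∀ {n : ℕ} (g v : Fin n → A) (x : T A n),
    d g (L v x) + L v (d g x) = (∑ j, v j * g j) • x := by
  intro n
  induction n with
  | zero => intro g v x; simp [d]
  | succ n ih =>
    intro g v x
    have hs : (∑ j, v j * g j) = v 0 * g 0 + ∑ j, Fin.tail v j * Fin.tail g j :=
      Fin.sum_univ_succ _
    refine ext_part ?_ ?_
    · have := ih (Fin.tail g) (Fin.tail v) (part n false x)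
      simp only [map_add, map_smul, part_false_d, part_false_L, part_true_L, smul_sub, hs,
        add_smul, ← this, mul_smul]
      rw [smul_comm]
      abel
    · have := ih (Fin.tail g) (Fin.tail v) (part n true x)
      simp only [map_add, map_smul, map_sub, map_neg, part_true_d, part_false_d, part_true_L,
        smul_add, hs, add_smul, ← this, mul_smul]
      abel

theorem L_L : ∀ {n : ℕ} (v : Fin n → A) (x : T A n), L v (L v x) = 0 := by
  intro n
  induction n with
  | zero => intro v x; rfl
  | succ n ih =>
    intro v x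
    refine ext_part ?_ ?_ <;> simp [ih (Fin.tail v)]

/-! ### Degrees -/

/-- The degree `p` part. -/
def Deg (A : Type u) [CommRing A] (n p : ℕ) : Submodule A (T A n) where
  carrier := {x | ∀ s, wt s ≠ p → x s = 0}
  add_mem' hx hy s hs := by simp [hx s hs, hy s hs]
  zero_mem' s _ := rfl
  smul_mem' a x hx s hs := by simp [hx s hs]

theorem wt_cons {n : ℕ} (b : Bool) (s : Fin n → Bool) :
    wt (Fin.cons b s) = (if b then 1 else 0) + wt s := by simp [wt]

theorem mem_deg_succ {n p : ℕ} {x : T A (n + 1)} :
    x ∈ Deg A (n + 1) p ↔ part n false x ∈ Deg A n p ∧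
      ∀ s, wt s + 1 ≠ p → part n true x s = 0 := by
  constructor
  · intro h
    exact ⟨fun s hs => h _ (by simpa [wt_cons] using hs),
      fun s hs => h _ (by simpa [wt_cons, add_comm] using hs)⟩
  · rintro ⟨h0, h1⟩ s hs
    rw [← Fin.cons_self_tail s] at hs ⊢
    cases hb : s 0
    · exact h0 _ (by simpa [wt_cons, hb] using hs)
    · exact h1 _ (by simpa [wt_cons, hb, add_comm] using hs)

theorem part_true_mem {n p : ℕ} {x : T A (n + 1)} (hx : x ∈ Deg A (n + 1) (p + 1)) :
    part n true x ∈ Deg A n p :=
  fun s hs => (mem_deg_succ.1 hx).2 s (by omega)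

theorem part_true_eq_zero {n : ℕ} {x : T A (n + 1)} (hx : x ∈ Deg A (n + 1) 0) :
    part n true x = 0 :=
  funext fun s => (mem_deg_succ.1 hx).2 s (by omega)

theorem mem_deg_of_parts {n p : ℕ} {x : T A (n + 1)} (h0 : part n false x ∈ Deg A n (p + 1))
    (h1 : part n true x ∈ Deg A n p) : x ∈ Deg A (n + 1) (p + 1) :=
  mem_deg_succ.2 ⟨h0, fun s hs => h1 s (by omega)⟩

theorem d_mem : ∀ {n : ℕ} (g : Fin n → A) {p : ℕ} {x : T A n},
    x ∈ Deg A n p → (p = 0 → d g x = 0) ∧ d g x ∈ Deg A n (p - 1) := by
  intro n
  induction n with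
  | zero => intro g p x _; exact ⟨fun _ => rfl, Submodule.zero_mem _⟩
  | succ n ih =>
    intro g p x hx
    obtain ⟨a0, a1⟩ := ih (Fin.tail g) (mem_deg_succ.1 hx).1
    cases p with
    | zero =>
      have h : d g x = 0 := ext_part (by simp [a0 rfl, part_true_eq_zero hx])
        (by simp [part_true_eq_zero hx])
      exact ⟨fun _ => h, by rw [h]; exact Submodule.zero_mem _⟩
    | succ p =>
      obtain ⟨b0, b1⟩ := ih (Fin.tail g) (part_true_mem hx)
      refine ⟨fun h => by omega, ?_⟩
      cases p with
      | zero =>
        refine mem_deg_succ.2 ⟨?_, fun s _ => ?_⟩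
        · rw [part_false_d]
          exact add_mem a1 (Submodule.smul_mem _ _ (part_true_mem hx))
        · rw [part_true_d, b0 rfl]; simp
      | succ p =>
        refine mem_deg_of_parts ?_ ?_
        · rw [part_false_d]
          exact add_mem a1 (Submodule.smul_mem _ _ (part_true_mem hx))
        · rw [part_true_d]
          exact Submodule.neg_mem _ b1

theorem L_mem : ∀ {n : ℕ} (v : Fin n → A) {p : ℕ} {x : T A n},
    x ∈ Deg A n p → L v x ∈ Deg A n (p + 1) := by
  intro n
  induction n with
  | zero => intro v p x _; exact Submodule.zero_mem _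
  | succ n ih =>
    intro v p x hx
    refine mem_deg_of_parts ?_ ?_
    · rw [part_false_L]; exact ih _ (mem_deg_succ.1 hx).1
    · rw [part_true_L]
      refine sub_mem (Submodule.smul_mem _ _ (mem_deg_succ.1 hx).1) ?_
      cases p with
      | zero => simp [part_true_eq_zero hx]
      | succ p => exact ih _ (part_true_mem hx)

/-- The element in degree `0`. -/
def one (A : Type u) [CommRing A] (n : ℕ) : T A n := Pi.single (fun _ => false) 1

theorem cons_const {n : ℕ} (b : Bool) :
    (Fin.cons b (fun _ => b) : Fin (n + 1) → Bool) = fun _ => b := by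
  funext i; refine Fin.cases ?_ ?_ i <;> simp

theorem part_one (n : ℕ) : part n false (one A (n + 1)) = one A n ∧
    part n true (one A (n + 1)) = 0 := by
  constructor <;> ext s <;> rw [part_apply] <;> unfold one <;>
    rw [← cons_const (n := n) false] <;> simp [Pi.single_apply, Fin.cons_inj]

theorem wt_eq_zero : ∀ {n : ℕ} {s : Fin n → Bool}, wt s = 0 → s = fun _ => false := by
  intro n
  induction n with
  | zero => intro s _; exact funext finZeroElim
  | succ n ih =>
    intro s h
    rw [← Fin.cons_self_tail s] at h ⊢
    rw [wt_cons] at h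
    cases hb : s 0
    · rw [ih (s := Fin.tail s) (by simpa [hb] using h), cons_const]
    · simp [hb] at h

theorem wt_const_false : ∀ n : ℕ, wt (fun _ : Fin n => false) = 0 := by
  intro n
  induction n with
  | zero => rfl
  | succ n ih => rw [← cons_const, wt_cons, ih]; rfl

theorem wt_const_true : ∀ n : ℕ, wt (fun _ : Fin n => true) = n := by
  intro n
  induction n with
  | zero => rfl
  | succ n ih => rw [← cons_const, wt_cons, ih]; simp [add_comm]

theorem wt_le : ∀ {n : ℕ} (s : Fin n → Bool), wt s ≤ n := by
  intro n
  induction n with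
  | zero => intro s; exact le_rfl
  | succ n ih => intro s; have := ih (Fin.tail s); simp only [wt]; split <;> omega

theorem wt_not : ∀ {n : ℕ} (s : Fin n → Bool), wt (fun i => !s i) = n - wt s := by
  intro n
  induction n with
  | zero => intro s; rfl
  | succ n ih =>
    intro s
    have h := wt_le (Fin.tail s)
    have : Fin.tail (fun i => !s i) = fun i => !Fin.tail s i := rfl
    simp only [wt, this, ih (Fin.tail s)]
    rcases Bool.eq_false_or_eq_true (s 0) with h' | h' <;> simp [h'] <;> omega

theorem wt_eq_top {n : ℕ} {s : Fin n → Bool} (h : wt s = n) : s = fun _ => true := by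
  have := wt_eq_zero (s := fun i => !s i) (by rw [wt_not, h, Nat.sub_self])
  funext i
  simpa using congrFun this i

theorem single_mem {n : ℕ} (s : Fin n → Bool) (a : A) :
    (Pi.single s a : T A n) ∈ Deg A n (wt s) := fun t ht => by
  rw [Pi.single_apply, if_neg (fun e => ht (by rw [e]))]

theorem one_mem (n : ℕ) : one A n ∈ Deg A n 0 := by
  have := single_mem (A := A) (fun _ : Fin n => false) 1
  rw [wt_const_false] at this
  exact this

theorem deg_zero_eq {n : ℕ} {x : T A n} (hx : x ∈ Deg A n 0) :
    x = x (fun _ => false) • one A n := by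
  funext s
  by_cases h : s = fun _ => false
  · simp [one, h]
  · simp [one, h, hx s fun h0 => h (wt_eq_zero h0)]

theorem d_mem_span : ∀ {n : ℕ} (g : Fin n → A) (x : T A n) (s : Fin n → Bool),
    d g x s ∈ Ideal.span (Set.range g) := by
  intro n
  induction n with
  | zero => intro g x s; exact Ideal.zero_mem _
  | succ n ih =>
    intro g x s
    have hle : Ideal.span (Set.range (Fin.tail g)) ≤ Ideal.span (Set.range g) :=
      Ideal.span_mono (by rintro _ ⟨i, rfl⟩; exact ⟨i.succ, rfl⟩)
    rw [← Fin.cons_self_tail s]
    cases s 0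
    · show part n false (d g x) (Fin.tail s) ∈ _
      rw [part_false_d, Pi.add_apply, Pi.smul_apply]
      exact add_mem (hle (ih _ _ _))
        (Ideal.mul_mem_right _ _ (Ideal.subset_span (Set.mem_range_self 0)))
    · show part n true (d g x) (Fin.tail s) ∈ _
      rw [part_true_d, Pi.neg_apply]
      exact neg_mem (hle (ih _ _ _))

theorem exists_d_eq_of_mem {n : ℕ} (g : Fin n → A) {r : A} (hr : r ∈ Ideal.span (Set.range g)) :
    ∃ y ∈ Deg A n 1, d g y = r • one A n := by
  obtain ⟨v, rfl⟩ := (Ideal.mem_span_range_iff_exists_fun).1 hr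
  refine ⟨L v (one A n), L_mem v (one_mem n), ?_⟩
  have := d_L g v (one A n)
  rwa [(d_mem g (one_mem n)).1 rfl, map_zero, add_zero] at this

/-! ### Sign twist and transposition -/

/-- Signs conjugating `d` into `dual`. -/
def tau : {n : ℕ} → Bool → (Fin n → Bool) → A
  | 0, _, _ => 1
  | _ + 1, true, s => tau false (Fin.tail s)
  | _ + 1, false, s => (if s 0 then -1 else 1) * tau true (Fin.tail s)

theorem tau_mul_self : ∀ {n : ℕ} (b : Bool) (s : Fin n → Bool), tau (A := A) b s * tau b s = 1 := by
  intro n
  induction n with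
  | zero => intro b s; simp [tau]
  | succ n ih =>
    intro b s
    cases b
    · simp only [tau]; split <;> simp [ih true (Fin.tail s)]
    · exact ih false (Fin.tail s)

/-- The sign twist. -/
def tw (n : ℕ) (b : Bool) : T A n →ₗ[A] T A n where
  toFun x s := tau b s * x s
  map_add' x y := by ext s; simp [mul_add]
  map_smul' a x := by ext s; simp; ring

theorem tw_apply {n : ℕ} (b : Bool) (x : T A n) (s : Fin n → Bool) :
    tw n b x s = tau b s * x s := rfl

theorem tw_tw {n : ℕ} (b : Bool) (x : T A n) : tw n b (tw n b x) = x := by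
  ext s; rw [tw_apply, tw_apply, ← mul_assoc, tau_mul_self, one_mul]

theorem part_tw_true {n : ℕ} (c : Bool) (x : T A (n + 1)) :
    part n c (tw (n + 1) true x) = tw n false (part n c x) := by
  ext s; simp [part_apply, tw_apply, tau]

theorem part_tw_false {n : ℕ} (c : Bool) (x : T A (n + 1)) :
    part n c (tw (n + 1) false x) = (if c then -1 else 1 : A) • tw n true (part n c x) := by
  ext s; simp [part_apply, tw_apply, tau, mul_assoc]

theorem dual_tw : ∀ {n : ℕ} (g : Fin n → A) (x : T A n),
    dual g (tw n true x) = tw n true (d g x) ∧ dual g (tw n false x) = -tw n false (d g x) := by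
  intro n
  induction n with
  | zero => intro g x; simp [d, dual]
  | succ n ih =>
    intro g x
    have h0 := ih (Fin.tail g) (part n false x)
    have h1 := ih (Fin.tail g) (part n true x)
    constructor <;> refine ext_part ?_ ?_
    · simp [part_tw_true, h0.2]
    · simp [part_tw_true, h1.2]
    · simp [part_tw_false, h0.1]; abel
    · simp [part_tw_false, h1.1]

/-- The self-duality pairing. -/
def pair {n : ℕ} (x y : T A n) : A := ∑ s, x s * y fun i => !s i

theorem pair_succ {n : ℕ} (x y : T A (n + 1)) :
    pair x y = pair (part n false x) (part n true y) + pair (part n true x) (part n false y) := by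
  have hn : ∀ (b : Bool) (s : Fin n → Bool),
      (fun i => !(Fin.cons b s : Fin (n + 1) → Bool) i) = Fin.cons (!b) fun i => !s i := by
    intro b s; funext i; refine Fin.cases ?_ ?_ i <;> simp
  rw [pair, ← Equiv.sum_comp (Fin.consEquiv fun _ : Fin (n + 1) => Bool), Fintype.sum_prod_type,
    Fintype.sum_bool]
  simp only [Fin.consEquiv, Equiv.coe_fn_mk, hn, pair, part_apply]
  rw [add_comm]
  rfl

theorem pair_add_left {n : ℕ} (x x' y : T A n) : pair (x + x') y = pair x y + pair x' y := by
  simp [pair, add_mul, sum_add_distrib]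

theorem pair_add_right {n : ℕ} (x y y' : T A n) : pair x (y + y') = pair x y + pair x y' := by
  simp [pair, mul_add, sum_add_distrib]

theorem pair_smul_left {n : ℕ} (a : A) (x y : T A n) : pair (a • x) y = a * pair x y := by
  simp [pair, mul_sum, mul_assoc]

theorem pair_smul_right {n : ℕ} (a : A) (x y : T A n) : pair x (a • y) = a * pair x y := by
  simp [pair, mul_sum, mul_left_comm]

theorem pair_neg_left {n : ℕ} (x y : T A n) : pair (-x) y = -pair x y := by simp [pair]

theorem pair_neg_right {n : ℕ} (x y : T A n) : pair x (-y) = -pair x y := by simp [pair]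

theorem pair_d : ∀ {n : ℕ} (g : Fin n → A) (x y : T A n), pair (d g x) y = pair x (dual g y) := by
  intro n
  induction n with
  | zero => intro g x y; simp [d, dual, pair]
  | succ n ih =>
    intro g x y
    rw [pair_succ, pair_succ, part_false_d, part_true_d, part_false_dual, part_true_dual]
    simp only [pair_add_left, pair_add_right, pair_smul_left, pair_smul_right, pair_neg_left,
      pair_neg_right, ih]
    ring

theorem pair_single {n : ℕ} (y : T A n) (s : Fin n → Bool) :
    pair (Pi.single (fun i => !s i) 1) y = y s := by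
  rw [pair, Finset.sum_eq_single (fun i => !s i)]
  · simp
  · intro t _ ht; simp [ht]
  · simp

/-- The transpose of a linear map. -/
def adj {n : ℕ} (φ : T A n →ₗ[A] T A n) : T A n →ₗ[A] T A n where
  toFun y s := pair (φ (Pi.single (fun i => !s i) 1)) y
  map_add' y y' := by ext s; simp [pair_add_right]
  map_smul' a y := by ext s; simp [pair_smul_right]

theorem adj_spec {n : ℕ} (φ : T A n →ₗ[A] T A n) (x y : T A n) :
    pair (φ x) y = pair x (adj φ y) := by
  have h : x = ∑ t, x t • Pi.single t (1 : A) := pi_eq_sum_univ' x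
  show _ = ∑ t, x t * pair (φ (Pi.single (fun i => !!t i) 1)) y
  conv_lhs => rw [h, map_sum]
  simp only [map_smul, Bool.not_not]
  rw [show pair (∑ t, x t • φ (Pi.single t 1)) y = ∑ t, pair (x t • φ (Pi.single t 1)) y from
    map_sum (AddMonoidHom.mk' (fun z => pair z y) fun a b => pair_add_left a b y) _ _]
  simp [pair_smul_left]

theorem adj_dual {n : ℕ} {f g : Fin n → A} (φ : T A n →ₗ[A] T A n)
    (h : ∀ x, d f (φ x) = φ (d g x)) (y : T A n) : adj φ (dual f y) = dual g (adj φ y) := by
  funext s
  rw [← pair_single (adj φ (dual f y)) s, ← pair_single (dual g (adj φ y)) s, ← adj_spec, ← pair_d,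
    ← pair_d, ← adj_spec, h]

/-! ### The comparison map -/

/-- The map induced by a matrix, with the given rows. -/
def chi {n : ℕ} : {m : ℕ} → (Fin m → Fin n → A) → (T A m →ₗ[A] T A n)
  | 0, _ => (LinearMap.proj (R := A) (φ := fun _ : Fin 0 → Bool => A) (fun _ => false)).smulRight (one A n)
  | m + 1, c => (chi (Fin.tail c)).comp (part m false) +
      (L (c 0)).comp ((chi (Fin.tail c)).comp (part m true))

theorem chi_succ {n m : ℕ} (c : Fin (m + 1) → Fin n → A) (x : T A (m + 1)) :
    chi c x = chi (Fin.tail c) (part m false x) + L (c 0) (chi (Fin.tail c) (part m true x)) := rfl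

theorem chi_comm {n : ℕ} (g : Fin n → A) : ∀ {m : ℕ} (c : Fin m → Fin n → A) (x : T A m),
    d g (chi c x) = chi c (d (fun i => ∑ j, c i j * g j) x) := by
  intro m
  induction m with
  | zero =>
    intro c x
    show d g (x _ • one A n) = _
    rw [map_smul, (d_mem g (one_mem n)).1 rfl, smul_zero]
    exact (map_zero _).symm
  | succ m ih =>
    intro c x
    set f := fun i => ∑ j, c i j * g j
    have ht : Fin.tail f = fun i => ∑ j, Fin.tail c i j * g j := rfl
    rw [chi_succ, chi_succ, part_false_d, part_true_d, map_add, map_add, map_smul, map_neg,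
      map_neg, ht, ih, ← ih (Fin.tail c) (part m true x)]
    have := d_L g (c 0) (chi (Fin.tail c) (part m true x))
    rw [show f 0 = ∑ j, c 0 j * g j from rfl, ← this]
    abel

theorem chi_one {n : ℕ} : ∀ {m : ℕ} (c : Fin m → Fin n → A), chi c (one A m) = one A n := by
  intro m
  induction m with
  | zero => intro c; show one A 0 (fun _ => false) • one A n = one A n; simp [one]
  | succ m ih => intro c; rw [chi_succ, (part_one m).1, (part_one m).2, ih]; simp

theorem chi_mem {n : ℕ} : ∀ {m : ℕ} (c : Fin m → Fin n → A) {p : ℕ} {x : T A m},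
    x ∈ Deg A m p → chi c x ∈ Deg A n p := by
  intro m
  induction m with
  | zero =>
    intro c p x hx
    show x _ • one A n ∈ _
    by_cases h : p = 0
    · subst h; exact Submodule.smul_mem _ _ (one_mem n)
    · rw [hx _ (fun e => h (by rw [← e, wt_const_false])), zero_smul]; exact Submodule.zero_mem _
  | succ m ih =>
    intro c p x hx
    rw [chi_succ]
    refine add_mem (ih _ (mem_deg_succ.1 hx).1) ?_
    cases p with
    | zero => simp [part_true_eq_zero hx]
    | succ p => exact L_mem _ (ih _ (part_true_mem hx))

/-- The top class. -/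
abbrev top (A : Type u) [CommRing A] (n : ℕ) : T A n := Pi.single (fun _ => true) 1

theorem part_top (n : ℕ) : part n false (top A (n + 1)) = 0 ∧
    part n true (top A (n + 1)) = top A n := by
  constructor <;> ext s <;> rw [part_apply] <;> unfold top <;>
    rw [← cons_const (n := n) true] <;> simp [Pi.single_apply, Fin.cons_inj]

/-- Iterated multiplication as an alternating map. -/
def lam (A : Type u) [CommRing A] (n m : ℕ) :
    (Fin n → A) [⋀^Fin m]→ₗ[A] T A n :=
  (((LinearMap.applyₗ (one A n)).comp
    (ExteriorAlgebra.lift A ⟨L, fun v => LinearMap.ext (L_L v)⟩).toLinearMap)).compAlternatingMap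
    (ExteriorAlgebra.ιMulti A m)

theorem chi_top {n : ℕ} : ∀ {m : ℕ} (c : Fin m → Fin n → A),
    chi c (top A m) = lam A n m c := by
  intro m
  induction m with
  | zero =>
    intro c
    show top A 0 (fun _ => false) • one A n = _
    simp [lam, top, ExteriorAlgebra.ιMulti_apply, Subsingleton.elim (fun _ : Fin 0 => false) (fun _ => true)]
  | succ m ih =>
    intro c
    rw [chi_succ, (part_top m).1, (part_top m).2, ih]
    simp [lam, ExteriorAlgebra.ιMulti_apply, Fin.tail, Matrix.vecTail, Function.comp_def]

theorem chi_id : ∀ (n : ℕ),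
    (∀ x : T A n, chi (fun i => (Pi.single i 1 : Fin n → A)) x = x) := by
  intro n
  suffices H : ∀ (m : ℕ) (x : T A m),
      chi (fun i : Fin m => (Pi.single i 1 : Fin m → A)) x = x from H n
  intro m
  induction m with
  | zero =>
    intro x
    show x _ • one A 0 = x
    funext s
    simp [one, Subsingleton.elim s fun _ => false]
  | succ m ih =>
    intro x
    have hsucc : ∀ {k : ℕ} (c : Fin k → Fin m → A) (y : T A k),
        chi (fun i => (Fin.cons 0 (c i) : Fin (m + 1) → A)) y = join m (chi c y, 0) := by
      intro k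
      induction k with
      | zero =>
        intro c y
        show y _ • one A (m + 1) = join m (y _ • one A m, 0)
        refine ext_part ?_ ?_ <;> simp [part_one]
      | succ k ihk =>
        intro c y
        rw [chi_succ, chi_succ,
          show (Fin.tail fun i => (Fin.cons 0 (c i) : Fin (m + 1) → A)) =
            fun i => Fin.cons 0 (Fin.tail c i) from rfl, ihk, ihk]
        refine ext_part ?_ ?_ <;> simp
    have e : (Fin.tail fun i : Fin (m + 1) => (Pi.single i 1 : Fin (m + 1) → A)) =
        fun i => Fin.cons 0 (Pi.single i 1 : Fin m → A) := by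
      funext i j
      refine Fin.cases ?_ (fun j => ?_) j
      · simp [Fin.tail]
      · simp [Fin.tail, Pi.single_apply, Fin.succ_inj]
    have e0 : Fin.tail (Pi.single (0 : Fin (m + 1)) (1 : A) : Fin (m + 1) → A) = 0 := by funext j; simp [Fin.tail]
    rw [chi_succ, e, hsucc, hsucc, ih, ih]
    refine ext_part ?_ ?_ <;> simp [e0]

theorem chi_top_eq_det {n : ℕ} (c : Fin n → Fin n → A) :
    chi c (top A n) (fun _ => true) = (Matrix.of c).det := by
  let F : (Fin n → A) [⋀^Fin n]→ₗ[A] A :=
    (LinearMap.proj (fun _ : Fin n => true)).compAlternatingMap (lam A n n)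
  have hF : ∀ c, F c = chi c (top A n) (fun _ => true) := fun c => by rw [chi_top]; rfl
  have h := AlternatingMap.eq_smul_basis_det (Pi.basisFun A (Fin n)) F
  rw [← hF, h, AlternatingMap.smul_apply, Module.Basis.det_apply]
  have h1 : F (Pi.basisFun A (Fin n)) = 1 := by
    rw [hF, show ⇑(Pi.basisFun A (Fin n)) = fun i => (Pi.single i 1 : Fin n → A) from
      funext fun i => Pi.basisFun_apply A (Fin n) i, chi_id]
    simp [top]
  rw [h1, one_smul, ← Matrix.det_transpose]
  rfl

/-! ### Lifting and homotopy -/

/-- Exactness in positive degrees. -/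
def Exact {n : ℕ} (g : Fin n → A) : Prop :=
  ∀ p, 1 ≤ p → ∀ x ∈ Deg A n p, d g x = 0 → ∃ y ∈ Deg A n (p + 1), d g y = x

/-- The linear map with given values on the standard basis. -/
abbrev lc {n m : ℕ} (v : (Fin n → Bool) → T A m) : T A n →ₗ[A] T A m :=
  Fintype.linearCombination A v

theorem lc_single {n m : ℕ} (v : (Fin n → Bool) → T A m) (s : Fin n → Bool) :
    lc v (Pi.single s 1) = v s := by simp [lc]

theorem apply_eq_of_deg {n m : ℕ} {φ φ' : T A n →ₗ[A] T A m} {q : ℕ} {x : T A n}
    (hx : x ∈ Deg A n q) (h : ∀ s, wt s = q → φ (Pi.single s 1) = φ' (Pi.single s 1)) :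
    φ x = φ' x := by
  rw [pi_eq_sum_univ' x, map_sum, map_sum]
  refine Finset.sum_congr rfl fun s _ => ?_
  by_cases hs : wt s = q
  · rw [map_smul, map_smul, h s hs]
  · rw [hx s hs, zero_smul, map_zero, map_zero]

theorem map_mem {n m : ℕ} {φ : T A n →ₗ[A] T A m} (hφ : ∀ s, φ (Pi.single s 1) ∈ Deg A m (wt s))
    {p : ℕ} {x : T A n} (hx : x ∈ Deg A n p) : φ x ∈ Deg A m p := by
  rw [pi_eq_sum_univ' x, map_sum]
  refine Submodule.sum_mem _ fun s _ => ?_
  by_cases hs : wt s = p
  · rw [map_smul]; exact Submodule.smul_mem _ _ (hs ▸ hφ s)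
  · rw [hx s hs, zero_smul, map_zero]; exact Submodule.zero_mem _

theorem exists_lift {n : ℕ} {f g : Fin n → A} (hf : Exact f) {a : A}
    (ha : ∀ j, a * g j ∈ Ideal.span (Set.range f)) :
    ∃ φ : T A n →ₗ[A] T A n, (∀ s, φ (Pi.single s 1) ∈ Deg A n (wt s)) ∧
      φ (one A n) = a • one A n ∧ ∀ x, d f (φ x) = φ (d g x) := by
  suffices ∀ P : ℕ, ∃ v : (Fin n → Bool) → T A n, (∀ s, v s ∈ Deg A n (wt s)) ∧
      v (fun _ => false) = a • one A n ∧
      ∀ s, wt s ≤ P → d f (v s) = lc v (d g (Pi.single s 1)) by
    obtain ⟨v, h1, h2, h3⟩ := this n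
    refine ⟨lc v, fun s => by rw [lc_single]; exact h1 s, by rw [one, lc_single, h2]; rfl,
      fun x => ?_⟩
    have hx : (d f).comp (lc v) = (lc v).comp (d g) :=
      (Pi.basisFun A (Fin n → Bool)).ext fun s => by
        simp only [Pi.basisFun_apply, LinearMap.comp_apply, lc_single]
        exact h3 s (wt_le s)
    exact LinearMap.congr_fun hx x
  intro P
  induction P with
  | zero =>
    refine ⟨Function.update 0 (fun _ => false) (a • one A n), fun s => ?_, by simp, fun s hs => ?_⟩
    · by_cases h : s = fun _ => false
      · subst h; rw [Function.update_self, wt_const_false]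
        exact Submodule.smul_mem _ _ (one_mem n)
      · rw [Function.update_of_ne h]; exact Submodule.zero_mem _
    · obtain rfl := wt_eq_zero (Nat.le_zero.1 hs)
      rw [Function.update_self, map_smul, (d_mem f (one_mem n)).1 rfl,
        ← one, (d_mem g (one_mem n)).1 rfl, smul_zero, map_zero]
  | succ P ih =>
    obtain ⟨v, h1, h2, h3⟩ := ih
    have hex : ∀ s, wt s = P + 1 →
        ∃ y ∈ Deg A n (P + 1), d f y = lc v (d g (Pi.single s 1)) := by
      intro s hs
      have hmem : d g (Pi.single s (1 : A)) ∈ Deg A n P := by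
        have := (d_mem g (single_mem (A := A) s 1)).2
        rwa [hs] at this
      cases P with
      | zero =>
        rw [deg_zero_eq hmem, map_smul]
        conv => enter [1, y, 2, 2]; rw [one, lc_single, h2, smul_smul, mul_comm]
        refine exists_d_eq_of_mem f ?_
        have hle : Ideal.span (Set.range g) ≤
            Submodule.comap (LinearMap.lsmul A A a) (Ideal.span (Set.range f)) := by
          rw [Submodule.span_le]; rintro _ ⟨j, rfl⟩; exact ha j
        exact hle (d_mem_span g (Pi.single s 1) _)
      | succ P =>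
        refine hf (P + 1) (by omega) _
          (map_mem (fun s => by rw [lc_single]; exact h1 s) hmem) ?_
        have key : ∀ x ∈ Deg A n (P + 1), d f (lc v x) = lc v (d g x) := fun x hx =>
          apply_eq_of_deg (φ := (d f).comp (lc v)) (φ' := (lc v).comp (d g)) hx fun s hs => by
            simp only [LinearMap.comp_apply, lc_single]; exact h3 s hs.le
        rw [key _ hmem, d_d, map_zero]
    choose y hy hy' using hex
    let v' := fun s => if h : wt s = P + 1 then y s h else v s
    have hagree : ∀ q ≤ P, ∀ x ∈ Deg A n q, lc v' x = lc v x := fun q hq x hx =>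
      apply_eq_of_deg hx fun s hs => by
        rw [lc_single, lc_single]; exact dif_neg (by omega)
    refine ⟨v', fun s => ?_, ?_, fun s hs => ?_⟩
    · by_cases h : wt s = P + 1
      · simp only [v', dif_pos h]; exact h.symm ▸ hy s h
      · simp only [v', dif_neg h]; exact h1 s
    · simp only [v', wt_const_false]; rw [dif_neg (by omega)]; exact h2
    · rw [hagree (wt s - 1) (by omega) _ (d_mem g (single_mem (A := A) s 1)).2]
      by_cases h : wt s = P + 1
      · simp only [v', dif_pos h]; exact hy' s h
      · simp only [v', dif_neg h]; exact h3 s (by omega)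

theorem coeff_mem_of_chain {n : ℕ} {f g : Fin n → A} (hg : Exact g)
    {ψ : T A n →ₗ[A] T A n} (hψ : ∀ s, ψ (Pi.single s 1) ∈ Deg A n (wt s))
    (h0 : ψ (one A n) = 0) (hcomm : ∀ x, d g (ψ x) = ψ (d f x)) (t : Fin n → Bool) :
    ψ (top A n) t ∈ Ideal.span (Set.range f) := by
  have H : ∀ P : ℕ, ∃ h : T A n →ₗ[A] T A n,
      (∀ s, h (Pi.single s 1) ∈ Deg A n (wt s + 1)) ∧
      ∀ s, wt s ≤ P → ψ (Pi.single s 1) = d g (h (Pi.single s 1)) + h (d f (Pi.single s 1)) := by
    intro P
    induction P with
    | zero =>
      refine ⟨0, fun s => Submodule.zero_mem _, fun s hs => ?_⟩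
      obtain rfl := wt_eq_zero (Nat.le_zero.1 hs)
      rw [← one, h0]; simp
    | succ P ih =>
      obtain ⟨h, h1, h2⟩ := ih
      have hup : ∀ {q : ℕ} {x : T A n}, x ∈ Deg A n q → h x ∈ Deg A n (q + 1) := by
        intro q x hx
        rw [pi_eq_sum_univ' x, map_sum]
        refine Submodule.sum_mem _ fun s _ => ?_
        by_cases hs : wt s = q
        · rw [map_smul]; exact Submodule.smul_mem _ _ (hs ▸ h1 s)
        · rw [hx s hs, zero_smul, map_zero]; exact Submodule.zero_mem _
      have hex : ∀ s, wt s = P + 1 → ∃ y ∈ Deg A n (P + 1 + 1),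
          d g y = ψ (Pi.single s 1) - h (d f (Pi.single s 1)) := by
        intro s hs
        have hmem : d f (Pi.single s (1 : A)) ∈ Deg A n P := by
          have := (d_mem f (single_mem (A := A) s 1)).2
          rwa [hs] at this
        refine hg (P + 1) (by omega) _ (sub_mem (hs ▸ hψ s) (hup hmem)) ?_
        have key : ∀ x ∈ Deg A n P, ψ x = d g (h x) + h (d f x) := fun x hx =>
          apply_eq_of_deg (φ := ψ) (φ' := (d g).comp h + h.comp (d f)) hx fun s hs => by
            simpa using h2 s hs.le
        rw [map_sub, hcomm, key _ hmem, d_d, map_zero, add_zero, sub_self]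
      choose y hy hy' using hex
      let v' := fun s => if e : wt s = P + 1 then y s e else h (Pi.single s 1)
      have hagree : ∀ q ≤ P, ∀ x ∈ Deg A n q, lc v' x = h x := fun q hq x hx =>
        apply_eq_of_deg hx fun s hs => by rw [lc_single]; exact dif_neg (by omega)
      refine ⟨lc v', fun s => ?_, fun s hs => ?_⟩
      · rw [lc_single]
        by_cases e : wt s = P + 1
        · simp only [v', dif_pos e]; exact e.symm ▸ hy s e
        · simp only [v', dif_neg e]; exact h1 s
      · rw [hagree (wt s - 1) (by omega) _ (d_mem f (single_mem (A := A) s 1)).2, lc_single]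
        by_cases e : wt s = P + 1
        · simp only [v', dif_pos e]; rw [hy' s e, sub_add_cancel]
        · simp only [v', dif_neg e]; exact h2 s (by omega)
  obtain ⟨h, h1, h2⟩ := H n
  have hz : h (top A n) = 0 := funext fun s => h1 (fun _ => true) s (by
    rw [wt_const_true]; have := wt_le s; omega)
  rw [h2 (fun _ => true) (wt_const_true n).le, ← top, hz, map_zero, zero_add]
  have key : ∀ x : T A n, (∀ s, x s ∈ Ideal.span (Set.range f)) →
      h x t ∈ Ideal.span (Set.range f) := by
    intro x hx
    rw [pi_eq_sum_univ' x, map_sum, Finset.sum_apply]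
    exact Submodule.sum_mem _ fun s _ => by
      rw [map_smul, Pi.smul_apply]; exact Ideal.mul_mem_right _ _ (hx s)
  exact key _ (d_mem_span f _)

theorem tau_const_false : ∀ (n : ℕ) (b : Bool), tau (A := A) b (fun _ : Fin n => false) = 1 := by
  intro n
  induction n with
  | zero => intro b; rfl
  | succ n ih =>
    intro b
    cases b
    · show (if (false : Bool) = true then (-1 : A) else 1) * tau true (fun _ : Fin n => false) = 1
      rw [ih true]; simp
    · exact ih false

theorem adj_mem {n : ℕ} {φ : T A n →ₗ[A] T A n} (hφ : ∀ s, φ (Pi.single s 1) ∈ Deg A n (wt s))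
    (t : Fin n → Bool) : adj φ (Pi.single t 1) ∈ Deg A n (wt t) := by
  intro s hs
  show pair (φ (Pi.single (fun i => !s i) 1)) _ = 0
  rw [pair, Finset.sum_eq_single (fun i => !t i)]
  · rw [hφ _ _ (fun e => hs (by
      rw [wt_not, wt_not] at e; have := wt_le s; have := wt_le t; omega)), zero_mul]
  · intro u _ hu
    rw [Pi.single_apply, if_neg, mul_zero]
    intro e; exact hu (funext fun i => by simp [← congrFun e i])
  · simp

theorem tw_single {n : ℕ} (b : Bool) (s : Fin n → Bool) :
    tw (A := A) n b (Pi.single s (1 : A) : T A n) = (tau b s : A) • (Pi.single s (1 : A) : T A n) := by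
  funext u
  rw [tw_apply, Pi.smul_apply, Pi.single_apply, smul_eq_mul]
  split
  · subst u; rfl
  · simp

/-- The lemma of Tate and Wiebe. -/
theorem mem_span_union {n : ℕ} {f g : Fin n → A} (c : Matrix (Fin n) (Fin n) A)
    (hc : ∀ i, f i = ∑ j, c i j * g j) (hf : Exact f) (hg : Exact g) {a : A}
    (ha : ∀ j, a * g j ∈ Ideal.span (Set.range f)) :
    a ∈ Ideal.span (Set.range f) ⊔ Ideal.span {c.det} := by
  obtain ⟨φ, hφ, hφ1, hφc⟩ := exists_lift hf ha
  set σ : A := φ (top A n) (fun _ => true)
  let ψ : T A n →ₗ[A] T A n :=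
    (tw n true).comp ((adj φ).comp (tw n true)) - σ • chi c
  have hf' : f = fun i => ∑ j, c i j * g j := funext hc
  have hψ : ∀ s, ψ (Pi.single s 1) ∈ Deg A n (wt s) := by
    intro s
    refine sub_mem ?_ (Submodule.smul_mem _ _ (chi_mem c (single_mem s 1)))
    simp only [LinearMap.comp_apply, tw_single, map_smul]
    refine Submodule.smul_mem _ _ fun u hu => ?_
    rw [tw_apply, adj_mem hφ s u hu, mul_zero]
  have hadj1 : adj φ (one A n) = σ • one A n := by
    have h : adj φ (one A n) ∈ Deg A n 0 := by
      have := adj_mem hφ (fun _ => false); rwa [wt_const_false] at this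
    rw [deg_zero_eq h]
    congr 1
    show pair (φ (Pi.single (fun _ => !false) 1)) (one A n) = σ
    rw [pair, Finset.sum_eq_single (fun _ => true)]
    · simp [one, σ]
    · intro u _ hu
      rw [one, Pi.single_apply, if_neg, mul_zero]
      intro e; exact hu (funext fun i => by simpa using congrFun e i)
    · simp
  have hψ1 : ψ (one A n) = 0 := by
    simp only [ψ, LinearMap.sub_apply, LinearMap.comp_apply, LinearMap.smul_apply, chi_one]
    rw [one, tw_single, tau_const_false, one_smul, ← one, hadj1, map_smul, one, tw_single,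
      tau_const_false, one_smul, sub_self]
  have hψc : ∀ x, d g (ψ x) = ψ (d f x) := by
    intro x
    simp only [ψ, LinearMap.sub_apply, LinearMap.comp_apply, LinearMap.smul_apply, map_sub,
      map_smul, chi_comm, ← hf']
    congr 1
    rw [← (dual_tw f x).1, adj_dual φ hφc, ← tw_tw true (adj φ (tw n true x)), (dual_tw g _).1,
      tw_tw, tw_tw]
  have h := coeff_mem_of_chain hg hψ hψ1 hψc (fun _ => true)
  simp only [ψ, LinearMap.sub_apply, LinearMap.comp_apply, LinearMap.smul_apply, Pi.sub_apply,
    Pi.smul_apply, smul_eq_mul, tw_single, map_smul, chi_top_eq_det, tw_apply] at h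
  rw [← mul_assoc, tau_mul_self, one_mul] at h
  have hat : adj φ (top A n) (fun _ => true) = a := by
    show pair (φ (Pi.single (fun _ => !true) 1)) (top A n) = a
    rw [show (Pi.single (fun _ : Fin n => !true) (1 : A)) = one A n from rfl, hφ1, pair_smul_left,
      pair, Finset.sum_eq_single (fun _ => false)]
    · simp [one, top]
    · intro u _ hu; simp [one, hu]
    · simp
  rw [hat] at h
  have : a = (a - σ * c.det) + σ * c.det := by ring
  rw [this]
  exact Submodule.add_mem_sup h (Ideal.mul_mem_left _ _ (Ideal.mem_span_singleton_self _))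

theorem det_mul_mem {n : ℕ} {f g : Fin n → A} (c : Matrix (Fin n) (Fin n) A)
    (hc : ∀ i, f i = ∑ j, c i j * g j) (j : Fin n) :
    c.det * g j ∈ Ideal.span (Set.range f) := by
  have h : c.det • g = c.adjugate.mulVec f := by
    rw [show f = c.mulVec g from funext hc, Matrix.mulVec_mulVec, Matrix.adjugate_mul,
      Matrix.smul_mulVec, Matrix.one_mulVec]
  rw [← smul_eq_mul, ← Pi.smul_apply, h]
  rw [Matrix.mulVec, dotProduct]
  exact sum_mem fun i _ =>
    Ideal.mul_mem_left (Ideal.span (Set.range f)) _ (Ideal.subset_span ⟨i, rfl⟩)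

end Groth.Agent.DiscDual32.KModel
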