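import Groth.Agent.DiscDual32.Tate
import Groth.Agent.DiscDual32.Fitt
import Groth.Agent.DiscDual32.BaseChange
import Groth.Agent.RelGCI94.SyntProperty
import Mathlib.RingTheory.Etale.Kaehler

/-!
# Finite free syntomic algebras: the different is the Kähler different
-/

set_option autoImplicit false

noncomputable section

namespace Groth.Agent.DiscDual32

open MvPolynomial TensorProduct Disc

universe u

variable {A : Type u} [CommRing A] {n : ℕ}

/-- The image of the Tate element in `Quo f ⊗ K` is not zero for a field `K` over `Quo f`. -/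
theorem map_proj_det_ne_zero (f : Fin n → MvPolynomial (Fin n) A) [Algebra.QuasiFinite A (Quo f)]
    {c : Matrix (Fin n) (Fin n) (MvPolynomial (Fin n) A ⊗[A] Quo f)}
    (hc : ∀ i, f i ⊗ₜ[A] (1 : Quo f) = ∑ j, c i j * gen f j)
    (K : Type u) [Field K] [Algebra A K] (π : Quo f →ₐ[A] K) :
    Algebra.TensorProduct.map (AlgHom.id A (Quo f)) π (proj (A := A) f c.det) ≠ 0 := by
  intro h0
  let F : Fin n → MvPolynomial (Fin n) K := fun i => MvPolynomial.map (algebraMap A K) (f i)
  let θ : MvPolynomial (Fin n) A ⊗[A] Quo f →ₐ[A] MvPolynomial (Fin n) K :=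
    Algebra.TensorProduct.productMap
      (MvPolynomial.mapAlgHom (Algebra.ofId A K))
      ((IsScalarTower.toAlgHom A K (MvPolynomial (Fin n) K)).comp π)
  have hθ : ∀ p y, θ (p ⊗ₜ[A] y) = MvPolynomial.map (algebraMap A K) p * C (π y) := fun p y => by
    simp [θ, MvPolynomial.algebraMap_eq]
  let a : Fin n → K := fun j => π (Ideal.Quotient.mk _ (X j))
  have hgen : ∀ j, θ (gen f j) = X j - C (a j) := fun j => by simp [gen, hθ, a]
  let c' : Matrix (Fin n) (Fin n) (MvPolynomial (Fin n) K) := c.map θ
  have hc' : ∀ i, F i = ∑ j, c' i j * (X j - C (a j)) := fun i => by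
    have := congrArg θ (hc i)
    rw [hθ, map_one, map_one, mul_one, map_sum] at this
    simp [F, this, c', hgen]
  let red : Quo f →ₐ[A] Quo F := Ideal.Quotient.liftₐ _
    ((Ideal.Quotient.mkₐ A _).comp (MvPolynomial.mapAlgHom (Algebra.ofId A K))) fun p hp => by
      have : Ideal.span (Set.range f) ≤ RingHom.ker ((Ideal.Quotient.mkₐ A (Ideal.span
          (Set.range F))).comp (MvPolynomial.mapAlgHom (Algebra.ofId A K))) := by
        refine Ideal.span_le.2 ?_
        rintro _ ⟨i, rfl⟩
        simp only [SetLike.mem_coe, RingHom.mem_ker, AlgHom.comp_apply, Ideal.Quotient.mkₐ_eq_mk,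
          Ideal.Quotient.eq_zero_iff_mem]
        exact Ideal.subset_span ⟨i, rfl⟩
      exact this hp
  have : Module.Finite K (Quo F) := by
    have hfin : Module.Finite K (K ⊗[A] Quo f) := Module.Finite.of_quasiFinite
    let ψ : K ⊗[A] Quo f →ₐ[K] Quo F :=
      Algebra.TensorProduct.lift (Algebra.ofId K (Quo F)) red fun _ _ => Commute.all _ _
    refine Module.Finite.of_surjective ψ.toLinearMap fun z => ?_
    obtain ⟨p, rfl⟩ := Ideal.Quotient.mk_surjective z
    show Ideal.Quotient.mk _ p ∈ Set.range ψ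
    induction p using MvPolynomial.induction_on with
    | C r => exact ⟨r ⊗ₜ[A] 1, by simp [ψ]; rfl⟩
    | add p q hp hq =>
      obtain ⟨u, hu⟩ := hp; obtain ⟨v, hv⟩ := hq
      exact ⟨u + v, by rw [map_add, hu, hv, map_add]⟩
    | mul_X p j hp =>
      obtain ⟨u, hu⟩ := hp
      refine ⟨u * (1 ⊗ₜ[A] Ideal.Quotient.mk _ (X j)), ?_⟩
      rw [map_mul, hu, map_mul]
      congr 1
      simp only [ψ, red, Algebra.TensorProduct.lift_tmul, map_one, one_mul]
      show Ideal.Quotient.mk _ (MvPolynomial.map (algebraMap A K) (X j)) = _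
      rw [map_X]
  have hroot : ∀ i, eval a (F i) = 0 := fun i => by rw [hc' i]; simp
  refine det_notMem_span F a hroot c' hc' ?_
  let θ' : Quo f ⊗[A] K →ₐ[A] Quo F := Algebra.TensorProduct.productMap red
    ((Ideal.Quotient.mkₐ A (Ideal.span (Set.range F))).comp
      (IsScalarTower.toAlgHom A K (MvPolynomial (Fin n) K)))
  have hcomm : ∀ x, Ideal.Quotient.mk _ (θ x) =
      θ' (Algebra.TensorProduct.map (AlgHom.id A (Quo f)) π (proj (A := A) f x)) := by
    intro x
    induction x with
    | zero => simp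
    | tmul p y => simp [θ', red, hθ, MvPolynomial.algebraMap_eq]
    | add s t hs ht => simp only [map_add, hs, ht]
  rw [← Ideal.Quotient.eq_zero_iff_mem,
    show c'.det = θ c.det from (AlgHom.map_det θ c).symm, hcomm, h0, map_zero]

variable {B : Type u} [CommRing B] [Algebra A B]

/-- A square presentation near every prime of a finite syntomic algebra. -/
theorem exists_square_chart [Module.Finite A B] (h : Synt.IsSyntomic A B) (q : Ideal B) [q.IsPrime] :
    ∃ a : B, a ∉ q ∧ ∃ (m : ℕ) (f : Fin m → MvPolynomial (Fin m) A) (_ : Algebra B (Quo f)),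
      IsScalarTower A B (Quo f) ∧ IsLocalization.Away a (Quo f) := by
  obtain ⟨a, ha, n, c, F, hF, ⟨e⟩⟩ := RelGCI94.exists_relGCI_at h q
  let p : PrimeSpectrum A := PrimeSpectrum.comap (algebraMap A B) ⟨q, inferInstance⟩
  let S := Synt.RelGCIRing A n c F
  let φ : B →ₐ[A] S := e.toAlgHom.comp (IsScalarTower.toAlgHom A B (Localization.Away a))
  let : Algebra B S := φ.toAlgebra
  have htower : IsScalarTower A B S := IsScalarTower.of_algebraMap_eq fun r => (φ.commutes r).symm
  let e' : Localization.Away a ≃ₐ[B] S := AlgEquiv.ofRingEquiv (f := e.toRingEquiv) fun x => rfl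
  have hloc : IsLocalization.Away a S := IsLocalization.isLocalization_of_algEquiv _ e'
  have : Algebra.QuasiFinite A S := Algebra.QuasiFinite.of_isLocalization (Submonoid.powers a)
  obtain ⟨Q, hQ⟩ : ∃ Q : PrimeSpectrum S, PrimeSpectrum.comap (algebraMap B S) Q = ⟨q, inferInstance⟩ := by
    have := PrimeSpectrum.localization_away_comap_range S a
    have hq : (⟨q, inferInstance⟩ : PrimeSpectrum B) ∈
        Set.range (PrimeSpectrum.comap (algebraMap B S)) := by rw [this]; exact ha
    exact hq
  have hQp : PrimeSpectrum.comap (algebraMap A S) Q = p := by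
    show _ = PrimeSpectrum.comap (algebraMap A B) ⟨q, _⟩
    rw [IsScalarTower.algebraMap_eq A B S, PrimeSpectrum.comap_comp_apply, hQ]
  have : Nontrivial (p.asIdeal.Fiber S) := by
    have := ((PrimeSpectrum.preimageEquivFiber A S p) ⟨Q, hQp⟩).2
    exact ⟨⟨0, 1, fun h01 => this.ne_top ((Ideal.eq_top_iff_one _).2 (h01 ▸ zero_mem _))⟩⟩
  obtain ⟨hcn, hdim⟩ := hF p this
  rw [ringKrullDim_eq_zero_of_finite (K := p.asIdeal.ResidueField) (S := p.asIdeal.Fiber S)] at hdim
  have : n - c = 0 := by exact_mod_cast hdim.symm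
  obtain rfl : n = c := by omega
  exact ⟨a, ha, n, F, φ.toAlgebra, htower, hloc⟩

theorem differentSet_eq_fitting [Module.Finite A B] [Module.Free A B] (h : Synt.IsSyntomic A B) :
    differentSet A B = (Fitt.ideal B (KaehlerDifferential A B) 0 : Set B) := by
  classical
  choose a ha n f alg tower loc using fun q : PrimeSpectrum B => exists_square_chart h q.asIdeal
  have hepi : ∀ q : PrimeSpectrum B, jIdeal A (Quo (f q)) =
      (jIdeal A B).map (sqMap A B (Quo (f q))).toRingHom ∧
      noetherDifferent A (Quo (f q)) = (noetherDifferent A B).map (algebraMap B (Quo (f q))) := by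
    intro q
    have := tower q
    have := loc q
    have hfl : Module.Flat B (Quo (f q)) :=
      IsLocalization.flat (Quo (f q)) (Submonoid.powers (a q))
    exact jIdeal_of_epi (RingHom.flat_algebraMap_iff.2 hfl) fun Q _ g g' hg =>
      IsLocalization.ringHom_ext (Submonoid.powers (a q)) hg
  have hqf : ∀ q : PrimeSpectrum B, Algebra.QuasiFinite A (Quo (f q)) := fun q => by
    have := tower q
    have := loc q
    exact Algebra.QuasiFinite.of_isLocalization (Submonoid.powers (a q))
  have hnoether : noetherDifferent A B = Fitt.ideal B (KaehlerDifferential A B) 0 := by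
    have key : ∀ I J : Ideal B, (∀ q : PrimeSpectrum B,
        I.map (algebraMap B (Quo (f q))) ≤ J.map (algebraMap B (Quo (f q)))) → I ≤ J := by
      intro I J hIJ x hx
      by_contra hxJ
      have hne : J.colon {x} ≠ ⊤ := fun ht => hxJ (by
        have := Submodule.mem_colon_singleton.1 (show (1 : B) ∈ J.colon {x} by rw [ht]; trivial)
        simpa using this)
      obtain ⟨q, hq, hle⟩ := Ideal.exists_le_maximal _ hne
      let Q : PrimeSpectrum B := ⟨q, hq.isPrime⟩
      have := tower Q
      have := loc Q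
      obtain ⟨⟨_, m, rfl⟩, hm⟩ := (IsLocalization.algebraMap_mem_map_algebraMap_iff
        (Submonoid.powers (a Q)) (Quo (f Q)) J x).1 (hIJ Q (Ideal.mem_map_of_mem _ hx)) |>
        fun ⟨m, hm, hm'⟩ => (⟨⟨m, hm⟩, hm'⟩ : ∃ m : Submonoid.powers (a Q), (m : B) * x ∈ J)
      exact ha Q (hq.isPrime.mem_of_pow_mem m (hle (Submodule.mem_colon_singleton.2
        (by simpa [smul_eq_mul] using hm))))
    have heq : ∀ q : PrimeSpectrum B, (noetherDifferent A B).map (algebraMap B (Quo (f q))) =
        (Fitt.ideal B (KaehlerDifferential A B) 0).map (algebraMap B (Quo (f q))) := by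
      intro q
      have := tower q
      have := loc q
      have := hqf q
      have : Algebra.FormallyEtale B (Quo (f q)) :=
        Algebra.FormallyEtale.of_isLocalization (Submonoid.powers (a q))
      rw [← (hepi q).2, noetherDifferent_eq, ← Fit14.ideal_baseChange (R' := Quo (f q)),
        Fit14.ideal_congr (KaehlerDifferential.tensorKaehlerEquivOfFormallyEtale A B (Quo (f q))),
        fitting_eq]
    exact le_antisymm (key _ _ fun q => (heq q).le) (key _ _ fun q => (heq q).ge)
  rw [← hnoether]
  refine Set.Subset.antisymm (fun x hx => ?_) noetherDifferent_subset_differentSet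
  let T : Ideal B := Ideal.span {y | ∃ (Φ : Omega A B →ₗ[B] B) (l : Omega A B), Φ l = y}
  have hT : T = ⊤ := by
    by_contra hne
    obtain ⟨q, hq, hle⟩ := Ideal.exists_le_maximal _ hne
    let Q : PrimeSpectrum B := ⟨q, hq.isPrime⟩
    have := tower Q
    have := loc Q
    have := hqf Q
    let : Field (B ⧸ q) := Ideal.Quotient.field q
    let π : B →ₐ[A] B ⧸ q := Ideal.Quotient.mkₐ A q
    let π' : Quo (f Q) →ₐ[A] B ⧸ q := IsLocalization.liftAlgHom (M := Submonoid.powers (a Q))
      (f := π) (by
        rintro ⟨_, m, rfl⟩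
        simp only [map_pow]
        exact (IsUnit.mk0 _ fun h0 => ha Q (Ideal.Quotient.eq_zero_iff_mem.1 h0)).pow m)
    obtain ⟨c, hc⟩ := exists_coeff (f Q)
    refine map_proj_det_ne_zero (f Q) hc (B ⧸ q) π' ?_
    let ι := Algebra.TensorProduct.map (IsScalarTower.toAlgHom A B (Quo (f Q))) π
    let π₂ := Algebra.TensorProduct.map (AlgHom.id A (Quo (f Q))) π'
    have hzero : (jIdeal A B).map (sqMap A B (Quo (f Q))).toRingHom ≤ RingHom.ker π₂ := by
      refine Ideal.map_le_iff_le_comap.2 fun ξ hξ => ?_
      show π₂ (sqMap A B (Quo (f Q)) ξ) = 0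
      have hcomp : π₂ (sqMap A B (Quo (f Q)) ξ) = ι ξ := by
        have : π₂.comp (sqMap A B (Quo (f Q))) = ι := by
          refine Algebra.TensorProduct.ext' fun x y => ?_
          simp [π₂, ι, π', IsLocalization.liftAlgHom_apply]
        exact DFunLike.congr_fun this ξ
      rw [hcomp, ← expansion (Module.Free.chooseBasis A B) ξ, map_sum]
      refine Finset.sum_eq_zero fun i _ => ?_
      have : π (ev (crd (Module.Free.chooseBasis A B) i) ξ) = 0 :=
        Ideal.Quotient.eq_zero_iff_mem.2 (hle (Ideal.subset_span ⟨pairing ξ hξ, _, rfl⟩))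
      simp [ι, this]
    refine hzero ?_
    rw [← (hepi Q).1, annihilator_eq (f Q) hc]
    exact Ideal.mem_span_singleton_self _
  have hle : T ≤ (noetherDifferent A B).colon {x} := by
    refine Ideal.span_le.2 ?_
    rintro _ ⟨Φ, l, rfl⟩
    obtain ⟨d, hd⟩ := mem_differentSet_iff.1 hx l
    rw [SetLike.mem_coe, Submodule.mem_colon_singleton, smul_eq_mul, mul_comm, ← smul_eq_mul,
      ← map_smul, hd, map_smul, smul_eq_mul]
    exact Ideal.mul_mem_left _ _ (mem_noetherDifferent_iff.2 ⟨Φ, rfl⟩)
  have := Submodule.mem_colon_singleton.1 (hle (show (1 : B) ∈ T by rw [hT]; trivial))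
  simpa using this

end Groth.Agent.DiscDual32
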