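import Mathlib.AlgebraicGeometry.Morphisms.IsIso
import Mathlib.RingTheory.Finiteness.Basic
import Mathlib.RingTheory.TensorProduct.Finite

/-!
# Open immersions of affine schemes and intermediate subalgebras
-/

set_option autoImplicit false

noncomputable section

namespace Groth.Agent.DiscDual32

open CategoryTheory AlgebraicGeometry

universe u

variable {R S : Type u} [CommRing R] [CommRing S]

theorem exists_away_surjective (φ : R →+* S)
    (h : IsOpenImmersion (Spec.map (CommRingCat.ofHom φ))) (P : PrimeSpectrum S) :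
    ∃ r : R, φ r ∉ P.asIdeal ∧ ∀ s : S, ∃ b m, φ b = φ r ^ m * s := by
  set f := Spec.map (CommRingCat.ofHom φ)
  obtain ⟨_, ⟨r, rfl⟩, hP, hsub⟩ := PrimeSpectrum.isTopologicalBasis_basic_opens.exists_subset_of_mem_open
    (show f.base P ∈ Set.range f.base from ⟨P, rfl⟩) f.isOpenEmbedding.isOpen_range
  refine ⟨r, hP, ?_⟩
  have hi : IsIso (Spec.map (CommRingCat.ofHom (Localization.awayMap φ r))) := by
    refine ((MorphismProperty.isomorphisms Scheme).arrow_mk_iso_iff
      (SpecMapRestrictBasicOpenIso (CommRingCat.ofHom φ) r)).1 ?_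
    show IsIso (f ∣_ (PrimeSpectrum.basicOpen r))
    have : Surjective (f ∣_ (PrimeSpectrum.basicOpen r)) := ⟨fun y => by
      obtain ⟨x, hx⟩ := hsub y.2
      refine ⟨⟨x, show f.base x ∈ PrimeSpectrum.basicOpen r by rw [hx]; exact y.2⟩, ?_⟩
      exact Subtype.ext ((morphismRestrict_base_coe f _ _).trans hx)⟩
    exact (isIso_iff_isOpenImmersion_and_surjective _).2 ⟨inferInstance, this⟩
  have hbij : Function.Bijective (Localization.awayMap φ r) := by
    have : IsIso (Scheme.Spec.map (CommRingCat.ofHom (Localization.awayMap φ r)).op) := hi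
    have : IsIso (CommRingCat.ofHom (Localization.awayMap φ r)).op := isIso_of_reflects_iso _ Scheme.Spec
    have : IsIso (CommRingCat.ofHom (Localization.awayMap φ r)) := isIso_of_op _
    exact (ConcreteCategory.isIso_iff_bijective (CommRingCat.ofHom (Localization.awayMap φ r))).1 this
  exact Localization.awayMap_surjective_iff.1 hbij.2

theorem isOpenImmersion_of_away (φ : R →+* S)
    (h : ∀ P : PrimeSpectrum S, ∃ r : R, φ r ∉ P.asIdeal ∧ (∀ s : S, ∃ b m, φ b = φ r ^ m * s) ∧
      ∀ a, φ a = 0 → ∃ m, r ^ m * a = 0) :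
    IsOpenImmersion (Spec.map (CommRingCat.ofHom φ)) := by
  choose r hr hs hi using h
  refine IsZariskiLocalAtTarget.of_range_subset_iSup (P := @IsOpenImmersion)
    (fun P : PrimeSpectrum S => (PrimeSpectrum.basicOpen (r P) : (Spec (.of R)).Opens)) ?_ fun P => ?_
  · rintro _ ⟨P, rfl⟩
    exact TopologicalSpace.Opens.mem_iSup.2 ⟨P, hr P⟩
  · refine ((MorphismProperty.arrow_mk_iso_iff @IsOpenImmersion
      (SpecMapRestrictBasicOpenIso (CommRingCat.ofHom φ) (r P))).2 ?_)
    have hb : Function.Bijective (Localization.awayMap φ (r P)) :=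
      ⟨Localization.awayMap_injective_iff.2 (hi P), Localization.awayMap_surjective_iff.2 (hs P)⟩
    have : IsIso (CommRingCat.ofHom (Localization.awayMap φ (r P))) :=
      (ConcreteCategory.isIso_iff_bijective _).2 hb
    exact inferInstance

variable {A : Type u} [CommRing A]

theorem exists_finite_subalgebra {B B' B'' : Type u} [CommRing B] [CommRing B'] [CommRing B'']
    [Algebra A B] [Algebra A B'] [Algebra A B''] [Algebra B' B] [Algebra B'' B]
    [IsScalarTower A B' B] [IsScalarTower A B'' B] [Module.Finite A B'] [Module.Finite A B'']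
    (h' : IsOpenImmersion (Spec.map (CommRingCat.ofHom (algebraMap B' B)))) :
    ∃ C : Subalgebra A B, Module.Finite A C ∧ Set.range (algebraMap B' B) ⊆ (C : Set B) ∧
      Set.range (algebraMap B'' B) ⊆ (C : Set B) ∧
      IsOpenImmersion (Spec.map (CommRingCat.ofHom C.val.toRingHom)) := by
  let ψ : TensorProduct A B' B'' →ₐ[A] B :=
    Algebra.TensorProduct.productMap (IsScalarTower.toAlgHom A B' B) (IsScalarTower.toAlgHom A B'' B)
  have hsub : Set.range (algebraMap B' B) ⊆ (ψ.range : Set B) :=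
    fun _ ⟨x, hx⟩ => ⟨x ⊗ₜ[A] 1, by simp [ψ, hx]⟩
  refine ⟨ψ.range, Module.Finite.range ψ.toLinearMap, hsub,
    fun _ ⟨x, hx⟩ => ⟨1 ⊗ₜ[A] x, by simp [ψ, hx]⟩, ?_⟩
  refine isOpenImmersion_of_away _ fun P => ?_
  obtain ⟨r, hr, hs⟩ := exists_away_surjective _ h' P
  refine ⟨⟨algebraMap B' B r, hsub ⟨r, rfl⟩⟩, hr, fun s => ?_,
    fun a ha => ⟨0, by rw [pow_zero, one_mul]; exact Subtype.ext ha⟩⟩
  obtain ⟨b, m, hb⟩ := hs s
  exact ⟨⟨algebraMap B' B b, hsub ⟨b, rfl⟩⟩, m, hb⟩

end Groth.Agent.DiscDual32
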