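import Groth.Agent.DiscDual32.Annihilator
import Groth.Agent.DiscDual32.Basic
import Groth.Agent.RelGCI94.Koszul
import Groth.Agent.RelGCI94.Syntomic
import Mathlib.RingTheory.TensorProduct.MvPolynomial
import Mathlib.RingTheory.QuasiFinite.Basic
import Mathlib.RingTheory.Jacobson.Artinian
import Mathlib.RingTheory.Ideal.AssociatedPrime.Localization
import Mathlib.Algebra.MvPolynomial.PDeriv
import Mathlib.RingTheory.OrzechProperty
import Mathlib.RingTheory.Finiteness.Quotient

/-!
# Tate's theorem for as many equations as variables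
-/

set_option autoImplicit false

noncomputable section

namespace Groth.Agent.DiscDual32

open MvPolynomial TensorProduct Koszul19 Disc

universe u

variable {A : Type u} [CommRing A] {n : ℕ} (f : Fin n → MvPolynomial (Fin n) A)

omit [CommRing A] in
theorem ringKrullDim_eq_zero_of_finite {K S : Type u} [Field K] [CommRing S] [Algebra K S]
    [Module.Finite K S] [Nontrivial S] : ringKrullDim S = 0 := by
  have : IsArtinianRing S := IsArtinianRing.of_finite K S
  exact ringKrullDimZero_iff_ringKrullDim_eq_zero.1 inferInstance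

theorem isRelGCI_of_quasiFinite [Algebra.QuasiFinite A (Quo f)] : Synt.IsRelGCI A n n f := by
  intro p hp
  refine ⟨le_rfl, ?_⟩
  have : Module.Finite p.asIdeal.ResidueField (p.asIdeal.Fiber (Synt.RelGCIRing A n n f)) :=
    Algebra.QuasiFinite.finite_fiber (S := Quo f) p.asIdeal
  rw [Nat.sub_self, Nat.cast_zero]
  exact ringKrullDim_eq_zero_of_finite (K := p.asIdeal.ResidueField)
    (S := p.asIdeal.Fiber (Synt.RelGCIRing A n n f))

theorem kR_of_quasiFinite [Algebra.QuasiFinite A (Quo f)] : KR (List.ofFn f) :=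
  RelGCI94.kR_ofFn A n n f (isRelGCI_of_quasiFinite f)

theorem flat_of_quasiFinite [Algebra.QuasiFinite A (Quo f)] : Module.Flat A (Quo f) :=
  RelGCI94.flat_relGCIRing A n n f (isRelGCI_of_quasiFinite f)

/-- The sequence `x_j - a_j` is Koszul regular. -/
theorem kR_X_sub_C (a : Fin n → A) : KR (List.ofFn fun j => X j - C (a j)) := by
  let F : Fin n → MvPolynomial (Fin n) A := fun j => X j - C (a j)
  have hsurj : Function.Surjective (algebraMap A (Quo F)) := by
    intro z
    obtain ⟨p, rfl⟩ := Ideal.Quotient.mk_surjective z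
    refine ⟨eval a p, ?_⟩
    induction p using MvPolynomial.induction_on with
    | C r => rw [eval_C]; rfl
    | add p q hp hq => rw [map_add, map_add, hp, hq, map_add]
    | mul_X p j hp =>
      rw [map_mul, map_mul, hp, eval_X, map_mul]
      congr 1
      exact (Ideal.Quotient.eq (I := Ideal.span (Set.range F))).2
        ((neg_mem_iff (H := Ideal.span (Set.range F))).1 (by
          rw [neg_sub]; exact Ideal.subset_span ⟨j, rfl⟩))
  have : Module.Finite A (Quo F) :=
    Module.Finite.of_surjective (Algebra.linearMap A (Quo F)) hsurj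
  exact kR_of_quasiFinite F

/-- The element `x_j ⊗ 1 - 1 ⊗ x̄_j`. -/
def gen (j : Fin n) : MvPolynomial (Fin n) A ⊗[A] Quo f :=
  X j ⊗ₜ[A] (1 : Quo f) - (1 : MvPolynomial (Fin n) A) ⊗ₜ[A] Ideal.Quotient.mk _ (X j)

/-- `A[x] ⊗ B ≅ B[x]`. -/
def tensorPolyEquiv (B : Type u) [CommRing B] [Algebra A B] :
    MvPolynomial (Fin n) A ⊗[A] B ≃+* MvPolynomial (Fin n) B :=
  ((Algebra.TensorProduct.comm A (MvPolynomial (Fin n) A) B).toRingEquiv).trans
    (algebraTensorAlgEquiv (σ := Fin n) A B).toRingEquiv

theorem tensorPolyEquiv_tmul (B : Type u) [CommRing B] [Algebra A B] (p : MvPolynomial (Fin n) A)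
    (y : B) : tensorPolyEquiv B (p ⊗ₜ[A] y) = y • MvPolynomial.map (algebraMap A B) p := by
  simp [tensorPolyEquiv]

theorem kR_gen : KR (List.ofFn (gen f)) := by
  let e := tensorPolyEquiv (A := A) (n := n) (Quo f)
  have h := kR_X_sub_C (A := Quo f) fun j => Ideal.Quotient.mk (Ideal.span (Set.range f)) (X j)
  let φ := e.symm.toRingHom
  let : Algebra (MvPolynomial (Fin n) (Quo f)) (MvPolynomial (Fin n) A ⊗[A] Quo f) := φ.toAlgebra
  have : Module.Flat (MvPolynomial (Fin n) (Quo f)) (MvPolynomial (Fin n) A ⊗[A] Quo f) :=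
    RingHom.Flat.of_bijective e.symm.bijective
  have := h.map (B := MvPolynomial (Fin n) A ⊗[A] Quo f)
  rw [List.map_ofFn] at this
  convert this using 2
  funext j
  show gen f j = e.symm _
  rw [RingEquiv.eq_symm_apply]
  simp [gen, e, tensorPolyEquiv_tmul, MvPolynomial.smul_eq_C_mul]

theorem ker_evalDiag :
    Ideal.span (Set.range (gen f)) = RingHom.ker (evalDiag (A := A) f) := by
  refine le_antisymm (Ideal.span_le.2 ?_) fun a ha => ?_
  · rintro _ ⟨j, rfl⟩
    simp [gen, RingHom.mem_ker]
  · have key : ∀ p : MvPolynomial (Fin n) A, p ⊗ₜ[A] (1 : Quo f) -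
        (1 : MvPolynomial (Fin n) A) ⊗ₜ[A] Ideal.Quotient.mk (Ideal.span (Set.range f)) p ∈
          Ideal.span (Set.range (gen f)) := by
      intro p
      induction p using MvPolynomial.induction_on with
      | C r =>
        have : (C r : MvPolynomial (Fin n) A) ⊗ₜ[A] (1 : Quo f) = (1 : MvPolynomial (Fin n) A) ⊗ₜ[A]
            Ideal.Quotient.mk (Ideal.span (Set.range f)) (C r) := by
          rw [show (C r : MvPolynomial (Fin n) A) = r • 1 by rw [smul_eq_C_mul, mul_one], smul_tmul]
          rfl
        rw [this, sub_self]; exact Ideal.zero_mem _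
      | add p q hp hq =>
        rw [map_add, add_tmul, tmul_add, add_sub_add_comm]; exact add_mem hp hq
      | mul_X p j hp =>
        have : (p * X j) ⊗ₜ[A] (1 : Quo f) - (1 : MvPolynomial (Fin n) A) ⊗ₜ[A]
            Ideal.Quotient.mk (Ideal.span (Set.range f)) (p * X j) =
            (p ⊗ₜ[A] (1 : Quo f) - (1 : MvPolynomial (Fin n) A) ⊗ₜ[A]
              Ideal.Quotient.mk (Ideal.span (Set.range f)) p) * (X j ⊗ₜ[A] (1 : Quo f)) +
            ((1 : MvPolynomial (Fin n) A) ⊗ₜ[A]
              Ideal.Quotient.mk (Ideal.span (Set.range f)) p) * gen f j := by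
          have e1 : (p * X j) ⊗ₜ[A] (1 : Quo f) =
              (p ⊗ₜ[A] (1 : Quo f)) * (X j ⊗ₜ[A] (1 : Quo f)) := by simp
          have e2 : (1 : MvPolynomial (Fin n) A) ⊗ₜ[A]
              Ideal.Quotient.mk (Ideal.span (Set.range f)) (p * X j) =
              ((1 : MvPolynomial (Fin n) A) ⊗ₜ[A] Ideal.Quotient.mk (Ideal.span (Set.range f)) p) *
              ((1 : MvPolynomial (Fin n) A) ⊗ₜ[A] Ideal.Quotient.mk (Ideal.span (Set.range f)) (X j)) := by
            simp
          rw [e1, e2, gen]
          ring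
        rw [this]
        exact add_mem (Ideal.mul_mem_right _ _ hp)
          (Ideal.mul_mem_left _ _ (Ideal.subset_span (Set.mem_range_self j)))
    have key2 : ∀ a, a - (1 : MvPolynomial (Fin n) A) ⊗ₜ[A] evalDiag (A := A) f a ∈
        Ideal.span (Set.range (gen f)) := by
      intro a
      induction a with
      | zero => simp
      | tmul p y =>
        have : p ⊗ₜ[A] y - (1 : MvPolynomial (Fin n) A) ⊗ₜ[A] evalDiag (A := A) f (p ⊗ₜ[A] y) =
            ((1 : MvPolynomial (Fin n) A) ⊗ₜ[A] y) * (p ⊗ₜ[A] (1 : Quo f) -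
              (1 : MvPolynomial (Fin n) A) ⊗ₜ[A] Ideal.Quotient.mk (Ideal.span (Set.range f)) p) := by
          simp [mul_sub, mul_comm]
        rw [this]
        exact Ideal.mul_mem_left _ _ (key p)
      | add a b ha hb => rw [map_add, tmul_add, add_sub_add_comm]; exact add_mem ha hb
    have := key2 a
    rwa [RingHom.mem_ker.1 ha, tmul_zero, sub_zero] at this

theorem exists_coeff : ∃ c : Matrix (Fin n) (Fin n) (MvPolynomial (Fin n) A ⊗[A] Quo f),
    ∀ i, f i ⊗ₜ[A] (1 : Quo f) = ∑ j, c i j * gen f j := by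
  have h : ∀ i, f i ⊗ₜ[A] (1 : Quo f) ∈ Ideal.span (Set.range (gen f)) := fun i => by
    rw [ker_evalDiag, RingHom.mem_ker]
    simp
  choose c hc using fun i => Ideal.mem_span_range_iff_exists_fun.1 (h i)
  exact ⟨c, fun i => (hc i).symm⟩

/-- The class of the Jacobian determinant. -/
abbrev jac : Quo f :=
  Ideal.Quotient.mk (Ideal.span (Set.range f)) (Matrix.det (Matrix.of fun i j => pderiv j (f i)))

theorem evalDiag_det {c : Matrix (Fin n) (Fin n) (MvPolynomial (Fin n) A ⊗[A] Quo f)}
    (hc : ∀ i, f i ⊗ₜ[A] (1 : Quo f) = ∑ j, c i j * gen f j) :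
    evalDiag (A := A) f c.det = jac f := by
  rw [jac, RingHom.map_det, AlgHom.map_det]
  congr 1
  ext i k
  simp only [AlgHom.mapMatrix_apply, RingHom.mapMatrix_apply, Matrix.map_apply, Matrix.of_apply]
  let D : MvPolynomial (Fin n) A ⊗[A] Quo f →ₗ[A] Quo f :=
    LinearMap.mul' A (Quo f) ∘ₗ TensorProduct.map
      ((Ideal.Quotient.mkₐ A (Ideal.span (Set.range f))).toLinearMap ∘ₗ (pderiv k).toLinearMap)
      LinearMap.id
  have hD : ∀ (p : MvPolynomial (Fin n) A) (y : Quo f),
      D (p ⊗ₜ[A] y) = Ideal.Quotient.mk _ (pderiv k p) * y := fun p y => rfl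
  have hleib : ∀ u v, D (u * v) =
      evalDiag (A := A) f u * D v + evalDiag (A := A) f v * D u := by
    intro u v
    induction u with
    | zero => simp
    | add a b ha hb => simp only [add_mul, map_add, ha, hb]; ring
    | tmul p y =>
      induction v with
      | zero => simp
      | add a b ha hb => simp only [mul_add, map_add, ha, hb]; ring
      | tmul q z =>
        simp only [Algebra.TensorProduct.tmul_mul_tmul, hD, Derivation.leibniz, smul_eq_mul,
          map_add, map_mul, Algebra.TensorProduct.productMap_apply_tmul, Ideal.Quotient.mkₐ_eq_mk,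
          AlgHom.id_apply]
        ring
  have hgen : ∀ j, D (gen f j) = if k = j then 1 else 0 := fun j => by
    rw [gen, map_sub, hD, hD, pderiv_one, map_zero, zero_mul, sub_zero, mul_one]
    by_cases h : k = j
    · subst h; rw [pderiv_X_self, map_one, if_pos rfl]
    · rw [pderiv_X_of_ne (Ne.symm h), map_zero, if_neg h]
  have hg0 : ∀ j, evalDiag (A := A) f (gen f j) = 0 := fun j => by simp [gen]
  have := congrArg D (hc i)
  rw [hD, mul_one, map_sum] at this
  rw [this]
  simp [hleib, hgen, hg0]

theorem annihilator_eq {c : Matrix (Fin n) (Fin n) (MvPolynomial (Fin n) A ⊗[A] Quo f)}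
    (hc : ∀ i, f i ⊗ₜ[A] (1 : Quo f) = ∑ j, c i j * gen f j) [Algebra.QuasiFinite A (Quo f)] :
    jIdeal A (Quo f) = Ideal.span {proj (A := A) f c.det} :=
  have := flat_of_quasiFinite f
  annihilator_eq_span_det f (kR_of_quasiFinite f) (gen f) (kR_gen f) (ker_evalDiag f) c hc

theorem noetherDifferent_eq [Algebra.QuasiFinite A (Quo f)] :
    noetherDifferent A (Quo f) = Ideal.span {jac f} := by
  obtain ⟨c, hc⟩ := exists_coeff f
  rw [noetherDifferent]
  show Ideal.map _ (jIdeal A (Quo f)) = _
  rw [annihilator_eq f hc, Ideal.map_span, Set.image_singleton, lmul'_proj, evalDiag_det f hc]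

/-- The socle element is not zero. -/
theorem det_notMem_span {K : Type u} [Field K] (F : Fin n → MvPolynomial (Fin n) K)
    [Module.Finite K (Quo F)] (a : Fin n → K) (ha : ∀ i, eval a (F i) = 0)
    (c : Matrix (Fin n) (Fin n) (MvPolynomial (Fin n) K))
    (hc : ∀ i, F i = ∑ j, c i j * (X j - C (a j))) : c.det ∉ Ideal.span (Set.range F) := by
  intro hdet
  let G : Fin n → MvPolynomial (Fin n) K := fun j => X j - C (a j)
  let S := Quo F
  have : IsArtinianRing S := IsArtinianRing.of_finite K S
  have : IsNoetherianRing S := inferInstance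
  let ev : S →+* K := Ideal.Quotient.lift _ (eval a) fun p hp => by
    have : Ideal.span (Set.range F) ≤ RingHom.ker (eval a) :=
      Ideal.span_le.2 (by rintro _ ⟨i, rfl⟩; exact ha i)
    exact this hp
  let m : Ideal S := RingHom.ker ev
  have hm : m.IsPrime := RingHom.ker_isPrime ev
  have hmin : m ∈ (Module.annihilator S S).minimalPrimes := by
    refine ⟨⟨hm, ?_⟩, fun q hq hle => ?_⟩
    · intro x hx
      have := Module.mem_annihilator.1 hx 1
      rw [smul_eq_mul, mul_one] at this
      rw [this]; exact zero_mem _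
    · have : q.IsMaximal := have := hq.1; IsArtinianRing.isMaximal_of_isPrime q
      exact (this.eq_of_le hm.ne_top hle).ge
  obtain ⟨-, x, hx⟩ := isAssociatedPrime_iff.1
    (AssociatedPrimes.mem_iff.1
      (Module.associatedPrimes.minimalPrimes_annihilator_subset_associatedPrimes S S hmin))
  obtain ⟨u, rfl⟩ := Ideal.Quotient.mk_surjective x
  have hu : ∀ j, u * G j ∈ Ideal.span (Set.range F) := fun j => by
    have : Ideal.Quotient.mk _ (G j) ∈ m := RingHom.mem_ker.2 (by
      show eval a (G j) = 0
      simp [G])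
    rw [hx, Submodule.mem_colon_singleton, Submodule.mem_bot, smul_eq_mul, ← map_mul,
      Ideal.Quotient.eq_zero_iff_mem, mul_comm] at this
    exact this
  have h := KModel.mem_span_union c hc (KModel.exact_of_kR (kR_of_quasiFinite F))
    (KModel.exact_of_kR (kR_X_sub_C a)) hu
  rw [sup_eq_left.2 ((Ideal.span_singleton_le_iff_mem _).2 hdet)] at h
  refine hm.ne_top ((Ideal.eq_top_iff_one _).2 ?_)
  rw [hx, Submodule.mem_colon_singleton, Submodule.mem_bot, one_smul,
    Ideal.Quotient.eq_zero_iff_mem]
  exact h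

theorem exists_omega_equiv [Module.Finite A (Quo f)] [Module.Free A (Quo f)] :
    ∃ e : Quo f ≃ₗ[Quo f] Omega A (Quo f), e (jac f) = Omega.trace A (Quo f) := by
  classical
  obtain ⟨c, hc⟩ := exists_coeff f
  set Δ := proj (A := A) f c.det
  have hΔ : Δ ∈ jIdeal A (Quo f) := by
    rw [annihilator_eq f hc]; exact Ideal.mem_span_singleton_self _
  let Φ := pairing Δ hΔ
  have hτ : Φ (Omega.trace A (Quo f)) = jac f := by
    show ev (Omega.trace A (Quo f)) Δ = _
    rw [← lmul'_eq_ev_trace hΔ, lmul'_proj, evalDiag_det f hc]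
  let b := Module.Free.chooseBasis A (Quo f)
  have hsurj : Function.Surjective Φ := by
    rw [← LinearMap.range_eq_top]
    by_contra hne
    obtain ⟨q, hq, hle⟩ := Ideal.exists_le_maximal (LinearMap.range Φ : Ideal (Quo f)) hne
    let K := Quo f ⧸ q
    let : Field K := Ideal.Quotient.field q
    let π : Quo f →ₐ[A] K := Ideal.Quotient.mkₐ A q
    let F : Fin n → MvPolynomial (Fin n) K := fun i => MvPolynomial.map (algebraMap A K) (f i)
    let θ : MvPolynomial (Fin n) A ⊗[A] Quo f →ₐ[A] MvPolynomial (Fin n) K :=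
      Algebra.TensorProduct.productMap
        (MvPolynomial.mapAlgHom (Algebra.ofId A K))
        ((IsScalarTower.toAlgHom A K (MvPolynomial (Fin n) K)).comp π)
    have hθ : ∀ p y, θ (p ⊗ₜ[A] y) = MvPolynomial.map (algebraMap A K) p * C (π y) := fun p y => by
      simp [θ, MvPolynomial.algebraMap_eq]
    let a : Fin n → K := fun j => π (Ideal.Quotient.mk _ (X j))
    have hgen : ∀ j, θ (gen f j) = X j - C (a j) := fun j => by simp [gen, hθ, a]
    let c' : Matrix (Fin n) (Fin n) (MvPolynomial (Fin n) K) := c.map θ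
    have hc' : ∀ i, F i = ∑ j, c' i j * (X j - C (a j)) := fun i => by
      have := congrArg θ (hc i)
      rw [hθ, map_one, map_one, mul_one, map_sum] at this
      simp [F, this, c', hgen]
    let red : Quo f →ₐ[A] Quo F := Ideal.Quotient.liftₐ _
      ((Ideal.Quotient.mkₐ A _).comp (MvPolynomial.mapAlgHom (Algebra.ofId A K))) fun p hp => by
        have : Ideal.span (Set.range f) ≤ RingHom.ker ((Ideal.Quotient.mkₐ A (Ideal.span
            (Set.range F))).comp (MvPolynomial.mapAlgHom (Algebra.ofId A K))) := by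
          refine Ideal.span_le.2 ?_
          rintro _ ⟨i, rfl⟩
          simp only [SetLike.mem_coe, RingHom.mem_ker, AlgHom.comp_apply, Ideal.Quotient.mkₐ_eq_mk,
            Ideal.Quotient.eq_zero_iff_mem]
          exact Ideal.subset_span ⟨i, rfl⟩
        exact this hp
    have : Module.Finite K (Quo F) := by
      have hfin : Module.Finite K (K ⊗[A] Quo f) := inferInstance
      let ψ : K ⊗[A] Quo f →ₐ[K] Quo F :=
        Algebra.TensorProduct.lift (Algebra.ofId K (Quo F)) red fun _ _ => Commute.all _ _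
      refine Module.Finite.of_surjective ψ.toLinearMap fun z => ?_
      obtain ⟨p, rfl⟩ := Ideal.Quotient.mk_surjective z
      show Ideal.Quotient.mk _ p ∈ Set.range ψ
      induction p using MvPolynomial.induction_on with
      | C r => exact ⟨r ⊗ₜ[A] 1, by simp [ψ]; rfl⟩
      | add p q hp hq =>
        obtain ⟨u, hu⟩ := hp; obtain ⟨v, hv⟩ := hq
        exact ⟨u + v, by rw [map_add, hu, hv, map_add]⟩
      | mul_X p j hp =>
        obtain ⟨u, hu⟩ := hp
        refine ⟨u * (1 ⊗ₜ[A] Ideal.Quotient.mk _ (X j)), ?_⟩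
        rw [map_mul, hu, map_mul]
        congr 1
        simp only [ψ, red, Algebra.TensorProduct.lift_tmul, map_one, one_mul]
        show Ideal.Quotient.mk _ (MvPolynomial.map (algebraMap A K) (X j)) = _
        rw [map_X]
    have hroot : ∀ i, eval a (F i) = 0 := fun i => by
      rw [hc' i]; simp
    refine det_notMem_span F a hroot c' hc' ?_
    let red2 : Quo f →ₐ[A] Quo F :=
      ((Ideal.Quotient.mkₐ A (Ideal.span (Set.range F))).comp
        (IsScalarTower.toAlgHom A K (MvPolynomial (Fin n) K))).comp π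
    let θ' : Quo f ⊗[A] Quo f →ₐ[A] Quo F := Algebra.TensorProduct.productMap red red2
    have hcomm : ∀ x, Ideal.Quotient.mk _ (θ x) = θ' (proj (A := A) f x) := by
      intro x
      induction x with
      | zero => simp
      | tmul p y => simp [θ', red, red2, hθ, MvPolynomial.algebraMap_eq]
      | add s t hs ht => simp only [map_add, hs, ht]
    rw [← Ideal.Quotient.eq_zero_iff_mem,
      show c'.det = θ c.det from (AlgHom.map_det θ c).symm, hcomm,
      show proj (A := A) f c.det = Δ from rfl, ← expansion b Δ, map_sum]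
    refine Finset.sum_eq_zero fun i _ => ?_
    have : π (ev (crd b i) Δ) = 0 :=
      Ideal.Quotient.eq_zero_iff_mem.2 (hle ⟨crd b i, rfl⟩)
    simp [θ', red2, this]
  have hΦA : ∀ l : Omega A (Quo f),
      Φ l = b.constr A (fun i => Φ (crd b i)) (∑ i, l.toLinearMap (b i) • b i) := by
    intro l
    conv_lhs => rw [omega_expansion b l]
    simp only [map_sum, map_smul, Module.Basis.constr_basis]
    simp [Algebra.smul_def]
  have hΨsurj : Function.Surjective (b.constr A fun i => Φ (crd b i)) := fun z => by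
    obtain ⟨l, rfl⟩ := hsurj z; exact ⟨_, (hΦA l).symm⟩
  have hΨinj := OrzechProperty.injective_of_surjective_endomorphism
    (b.constr A fun i => Φ (crd b i)) hΨsurj
  have hinj : Function.Injective Φ := by
    rw [injective_iff_map_eq_zero]
    intro l hl
    rw [hΦA] at hl
    have h0 := hΨinj (hl.trans (map_zero _).symm)
    refine Omega.ext (b.ext fun i => ?_)
    have := congrArg (fun x => b.repr x i) h0
    simpa [Finsupp.single_apply] using this
  refine ⟨(LinearEquiv.ofBijective Φ ⟨hinj, hsurj⟩).symm, ?_⟩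
  rw [LinearEquiv.symm_apply_eq]
  exact hτ.symm

end Groth.Agent.DiscDual32
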