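import Groth.Agent.DiscDual32.Basic
import Mathlib.RingTheory.Unramified.Locus
import Mathlib.LinearAlgebra.Matrix.Charpoly.LinearMap

/-!
# The Noether different cuts out the ramified locus
-/

set_option autoImplicit false

noncomputable section

namespace Groth.Agent.DiscDual32

open TensorProduct Disc Algebra

universe u v

variable {A : Type u} {B : Type v} [CommRing A] [CommRing B] [Algebra A B]

theorem algebraMap_smul_omega (c : B) (ω : Ω[B⁄A]) :
    (c ⊗ₜ[A] (1 : B)) • ω = c • ω := by
  rw [← IsScalarTower.algebraMap_smul (B ⊗[A] B) c ω]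
  rfl

theorem noetherDifferent_le_annihilator :
    noetherDifferent A B ≤ Module.annihilator B Ω[B⁄A] := by
  intro x hx
  obtain ⟨ξ, hξ, rfl⟩ := (Ideal.mem_map_iff_of_surjective _
    (fun y : B => ⟨y ⊗ₜ[A] (1 : B), by simp⟩)).1 hx
  refine Module.mem_annihilator.2 fun ω => ?_
  obtain ⟨i, rfl⟩ := KaehlerDifferential.fromIdeal_surjective A B ω
  set c := Algebra.TensorProduct.lmul' A ξ
  rw [← algebraMap_smul_omega, ← map_smul, ← sub_add_cancel (c ⊗ₜ[A] (1 : B)) ξ, add_smul,
    map_add]
  have h1 : ξ • i = 0 := Subtype.ext (Submodule.mem_annihilator.1 hξ i i.2)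
  rw [h1, map_zero, add_zero]
  show (KaehlerDifferential.ideal A B).toCotangent _ = 0
  rw [Ideal.toCotangent_eq_zero, SetLike.val_smul, smul_eq_mul, pow_two]
  exact Ideal.mul_mem_mul (by simp [RingHom.mem_ker, c]) i.2

theorem exists_pow_mem_noetherDifferent [Algebra.EssFiniteType A B] {c : B}
    (hc : c ∈ Module.annihilator B Ω[B⁄A]) : ∃ n : ℕ, c ^ n ∈ noetherDifferent A B := by
  set I := KaehlerDifferential.ideal A B
  have : Module.Finite (B ⊗[A] B) I := Module.Finite.iff_fg.2 (KaehlerDifferential.ideal_fg A B)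
  set C : B ⊗[A] B := c ⊗ₜ[A] (1 : B)
  let f : Module.End (B ⊗[A] B) I := algebraMap _ _ C
  have hf : LinearMap.range f ≤ I • ⊤ := by
    rintro _ ⟨i, rfl⟩
    have h : I.toCotangent (C • i) = 0 := by
      show KaehlerDifferential.fromIdeal A B (C • i) = 0
      rw [map_smul, algebraMap_smul_omega, Module.mem_annihilator.1 hc]
    rw [Ideal.toCotangent_eq_zero] at h
    have h' : Submodule.subtype I (C • i) ∈ Submodule.map (Submodule.subtype I) (I • ⊤) := by
      rw [Submodule.map_smul'', Submodule.map_top, Submodule.range_subtype]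
      simpa [pow_two] using h
    obtain ⟨j, hj, e⟩ := h'
    rwa [Submodule.subtype_injective I e] at hj
  obtain ⟨p, hp, -, hcoeff, hzero⟩ :=
    LinearMap.exists_monic_and_natDegree_eq_and_coeff_mem_pow_and_aeval_eq_zero _ f I hf
  refine ⟨p.natDegree, ?_⟩
  rw [noetherDifferent, Ideal.mem_map_iff_of_surjective _
    (fun y : B => ⟨y ⊗ₜ[A] (1 : B), by simp⟩)]
  refine ⟨p.eval C, Submodule.mem_annihilator.2 fun i hi => ?_, ?_⟩
  · have := LinearMap.congr_fun hzero ⟨i, hi⟩
    rw [Polynomial.aeval_algebraMap_apply] at this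
    simpa [Module.algebraMap_end_apply] using congrArg Subtype.val this
  · rw [Polynomial.eval_eq_sum_range, Finset.sum_range_succ, hp.coeff_natDegree, map_add,
      map_sum, Finset.sum_eq_zero, zero_add, one_mul, map_pow]
    · simp [C]
    intro k hk
    rw [map_mul]
    have : p.coeff k ∈ I := Ideal.pow_le_self (by simp at hk; omega) (hcoeff k)
    rw [RingHom.mem_ker.1 this, zero_mul]

theorem noetherDifferent_le_iff [Algebra.EssFiniteType A B] (q : Ideal B) [q.IsPrime] :
    noetherDifferent A B ≤ q ↔ ¬ Algebra.IsUnramifiedAt A q := by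
  have h : Algebra.IsUnramifiedAt A q ↔ (⟨q, inferInstance⟩ : PrimeSpectrum B) ∈
      (Module.support B Ω[B⁄A])ᶜ := by
    rw [← Algebra.unramifiedLocus_eq_compl_support]; rfl
  rw [h, Set.mem_compl_iff, not_not, Module.support_eq_zeroLocus, PrimeSpectrum.mem_zeroLocus,
    SetLike.coe_subset_coe]
  refine ⟨fun hq c hc => ?_, fun hq => noetherDifferent_le_annihilator.trans hq⟩
  obtain ⟨n, hn⟩ := exists_pow_mem_noetherDifferent hc
  exact Ideal.IsPrime.mem_of_pow_mem inferInstance n (hq hn)

end Groth.Agent.DiscDual32
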